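import Cfsg.Agent.H770.QF.Act
import Cfsg.Agent.H756.PU.Engine

/-!
# S5211, block q = 5: from the automizer of `Q₁` to the matrix block (helper770)

* `stM_of` : assembly of the matrix block;
* `Par5 Γ D` : the properties of `Γ = Aut_F(Q₁)`; `Par5.hyp : Hyp (Lo Γ)`;
* `Par5.classify` : the five possible orders; `Par5.uniq` : `Γ`, `D` are determined by the order; `Par5.card_Γ`.
-/

set_option autoImplicit false

namespace Cfsg.Agent.H770.QF

open Cfsg Cfsg.Agent.H650.G Cfsg.Agent.H650.G.GU Cfsg.Agent.H24.Q5 Matrix Cfsg.Agent.H756.PU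

theorem closure_le {L : Subgroup M5ˣ} (hL : Hyp L) {g : M5ˣ} (hg : g ∈ L) : Subgroup.closure {gA, g} ≤ L := by
  rw [Subgroup.closure_le]
  rintro x (rfl | rfl)
  · exact hL.memA
  · exact hg

theorem eq_of_card {L X : Subgroup M5ˣ} (h : X ≤ L) {n : ℕ} (h1 : n ≤ Nat.card X) (h2 : Nat.card L = n) : L = X :=
  (Subgroup.eq_of_le_of_card_ge h (h2.le.trans h1)).symm

/-- **The matrix block.** -/
theorem stM_of (hM2 : StM2) (hM3 : StM3) (hM4 : StM4) (hM5 : StM5) (hM6 : StM6) : StM := by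
  intro L hL
  obtain ⟨⟨cS, cR, cC, cB, cP⟩, ⟨nS, nR, nC, nB, nP⟩, -, -, -, hP⟩ := hM6
  have hX : ∃ X : Subgroup M5ˣ, X ≤ L ∧ -1 ∈ X ∧ ((X = LS ∧ 120 ≤ Nat.card X) ∨ (X = LP ∧ 120 ≤ Nat.card X) ∨
      160 ≤ Nat.card X) := by
    rcases hM2 L hL with h | h | h | h | h
    · exact ⟨LS, closure_le hL h, nS, Or.inl ⟨rfl, cS⟩⟩
    · exact ⟨LR, closure_le hL h, nR, Or.inr (Or.inr cR)⟩
    · exact ⟨LC, closure_le hL h, nC, Or.inr (Or.inr (by omega))⟩
    · exact ⟨LB, closure_le hL h, nB, Or.inr (Or.inr (by omega))⟩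
    · exact ⟨LP, closure_le hL h, nP, Or.inr (Or.inl ⟨rfl, cP⟩)⟩
  obtain ⟨X, hXL, hX1, hXc⟩ := hX
  have h1 : (-1 : M5ˣ) ∈ L := hXL hX1
  rcases hM3 L hL h1 with ⟨R, hRL, hRn, hR32, hR1, hRsq, hRc, hRA, hRh, hcard⟩ | hc | hc
  · have hR2 : ∀ r ∈ R, gh2 * r * gh2⁻¹ ∈ R := by
      classical
      -- the conjugation on `L`
      let f : L → L := fun g => ⟨gh2 * g * gh2⁻¹, hL.h2 g g.2⟩
      have hf : Function.Injective f := by
        intro a b hab
        have h2 : gh2 * (a : M5ˣ) * gh2⁻¹ = gh2 * b * gh2⁻¹ := congrArg Subtype.val hab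
        exact Subtype.ext (mul_left_cancel (mul_right_cancel h2))
      have hf2 : Function.Surjective f := Finite.surjective_of_injective hf
      let A : Set L := {g | (g : M5ˣ) ∈ R}
      have hA : f ⁻¹' A ⊆ A := fun g hg => hRh g g.2 hg
      have hA2 : (f ⁻¹' A) = A := by
        apply Set.eq_of_subset_of_ncard_le hA
        rw [Set.ncard_preimage_of_injective_subset_range hf]
        intro x _
        exact hf2 x
      intro r hr
      have h3 : (⟨r, hRL hr⟩ : L) ∈ f ⁻¹' A := by rw [hA2]; exact hr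
      exact h3
    obtain ⟨hLR, hLB⟩ := hM4 L R hL hRL hRn hR32 hR1 hRsq hRc hRA hR2
    rcases hcard with hc | hc
    · exact Or.inr (Or.inl ⟨hc, hLR hc⟩)
    · exact Or.inr (Or.inr (Or.inr ⟨hc, hLB hc⟩))
  · left
    refine ⟨hc, ?_⟩
    rcases hXc with ⟨rfl, h2⟩ | ⟨rfl, h2⟩ | h2
    · exact eq_of_card hXL h2 hc
    · exfalso
      have h3 := eq_of_card hXL h2 hc
      exact hL.irr2 fun g hg => hP g (h3 ▸ hg)
    · exfalso
      have h3 := Subgroup.card_le_of_le hXL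
      omega
  · right; right; left
    exact ⟨hc, eq_of_card (closure_le hL (hM5 L hL hc)) cC hc⟩

/-! ### The automizer of `Q₁` -/

/-- the automizer `Γ` of `Q₁` and the `5'`-part `D` of the automizer of `S` -/
structure Par0 (Γ : Subgroup (MulAut P1)) (D : Subgroup (MulAut (GU (ZMod 5)))) : Prop where
  indu : autInducedBy ⊤ P1 ≤ Γ
  syl : ∀ P : Subgroup (MulAut P1), P ≤ Γ → IsPGroup 5 P → ∃ g ∈ Γ, ∀ x ∈ P, g * x * g⁻¹ ∈ autInducedBy ⊤ P1
  D_tor : ∀ d ∈ D, ∃ s t : (ZMod 5)ˣ, d = tor s t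
  D_res : ∀ d ∈ D, ∀ γ : MulAut P1, IsRes d γ → γ ∈ Γ
  norm : ∀ γ ∈ Γ, NormAut ⊤ γ → ∃ x : GU (ZMod 5), ∃ d ∈ D, ∀ e : P1, ((γ e : P1) : GU (ZMod 5)) = x * d e * x⁻¹

/-- the core-free case -/
structure Par5 (Γ : Subgroup (MulAut P1)) (D : Subgroup (MulAut (GU (ZMod 5)))) : Prop extends Par0 Γ D where
  htor : ∀ t : (ZMod 5)ˣ, tor t⁻¹ (t ^ 2) ∈ D
  nZ2 : ¬ ∀ γ ∈ Γ, ∀ y : P1, (y : GU (ZMod 5)) ∈ Z2 (ZMod 5) → ((γ y : P1) : GU (ZMod 5)) ∈ Z2 (ZMod 5)
  nZ3 : ¬ ∀ γ ∈ Γ, ∀ y : P1, (y : GU (ZMod 5)) ∈ Z3 (ZMod 5) → ((γ y : P1) : GU (ZMod 5)) ∈ Z3 (ZMod 5)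

/-! ### The induced automorphisms -/

theorem autInd_eq : autInducedBy (⊤ : Subgroup (GU (ZMod 5))) P1 = (MulAut.conjNormal : GU (ZMod 5) →* MulAut P1).range := by
  apply le_antisymm
  · unfold autInducedBy
    rw [Subgroup.closure_le]
    rintro α ⟨g, -, hg⟩
    refine ⟨g, ?_⟩
    ext1 x
    apply Subtype.ext
    rw [MulAut.conjNormal_apply, hg]
  · rintro _ ⟨g, rfl⟩
    exact Subgroup.subset_closure ⟨g, trivial, fun x => MulAut.conjNormal_apply g x⟩

theorem cjQ_mem (x : GU (ZMod 5)) : cjQ x ∈ autInducedBy (⊤ : Subgroup (GU (ZMod 5))) P1 := by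
  rw [autInd_eq]; exact ⟨x, rfl⟩

theorem inn_le : Inn P1 ≤ autInducedBy (⊤ : Subgroup (GU (ZMod 5))) P1 := by
  rintro _ ⟨g, rfl⟩
  have h : MulAut.conj g = cjQ g := by
    ext1 y
    apply Subtype.ext
    rw [cjQ_apply]
    rfl
  rw [h]; exact cjQ_mem _

/-- `Aut_S(Q₁)` is the preimage of `⟨gA⟩` -/
theorem mem_autInd_iff {γ : MulAut P1} :
    γ ∈ autInducedBy (⊤ : Subgroup (GU (ZMod 5))) P1 ↔ act γ ∈ Subgroup.zpowers gA := by
  rw [mem_zpowers_iff]
  constructor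
  · rw [autInd_eq]
    rintro ⟨x, rfl⟩
    exact act_cjQ x
  · rintro ⟨k, hk⟩
    have h1 : act ((cjQ (x1 (-1))) ^ k) = gA ^ k := by rw [map_pow, act_cjQ_x1]
    have h2 : act (γ * ((cjQ (x1 (-1))) ^ k)⁻¹) = 1 := by rw [map_mul, map_inv, h1, hk, mul_inv_cancel]
    have h3 := inn_le (mem_inn_of_act h2)
    have h4 : γ = γ * ((cjQ (x1 (-1))) ^ k)⁻¹ * (cjQ (x1 (-1))) ^ k := by group
    rw [h4]
    exact Subgroup.mul_mem _ h3 (Subgroup.pow_mem _ (cjQ_mem _) _)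

namespace Par0

variable {Γ : Subgroup (MulAut P1)} {D : Subgroup (MulAut (GU (ZMod 5)))} (h : Par0 Γ D)

/-- the group generated by the elements of order five -/
noncomputable def Lo (Γ : Subgroup (MulAut P1)) : Subgroup M5ˣ := Subgroup.closure {g | g ∈ Γ.map act ∧ g ^ 5 = 1}

theorem Lo_le : Lo Γ ≤ Γ.map act := by
  unfold Lo
  rw [Subgroup.closure_le]
  exact fun g hg => hg.1

theorem mem_Lo {g : M5ˣ} (hg : g ∈ Γ.map act) (h5 : g ^ 5 = 1) : g ∈ Lo Γ := Subgroup.subset_closure ⟨hg, h5⟩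

theorem Lo_conj {g x : M5ˣ} (hg : g ∈ Γ.map act) (hx : x ∈ Lo Γ) : g * x * g⁻¹ ∈ Lo Γ := by
  unfold Lo at hx
  induction hx using Subgroup.closure_induction with
  | mem x hx =>
    apply mem_Lo
    · exact Subgroup.mul_mem _ (Subgroup.mul_mem _ hg hx.1) (Subgroup.inv_mem _ hg)
    · rw [conj_pow, hx.2, mul_one, mul_inv_cancel]
  | one => rw [mul_one, mul_inv_cancel]; exact Subgroup.one_mem _
  | mul x y _ _ hx hy =>
    have h1 : g * (x * y) * g⁻¹ = (g * x * g⁻¹) * (g * y * g⁻¹) := by group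
    rw [h1]; exact Subgroup.mul_mem _ hx hy
  | inv x _ hx =>
    have h1 : g * x⁻¹ * g⁻¹ = (g * x * g⁻¹)⁻¹ := by group
    rw [h1]; exact Subgroup.inv_mem _ hx

theorem iso_mul {A B : M5} (hA : Aᵀ * Om * A = Om) (hB : Bᵀ * Om * B = Om) : (A * B)ᵀ * Om * (A * B) = Om := by
  rw [Matrix.transpose_mul]
  calc Bᵀ * Aᵀ * Om * (A * B) = Bᵀ * (Aᵀ * Om * A) * B := by simp only [Matrix.mul_assoc]
    _ = Om := by rw [hA, hB]

theorem iso_of_mem {g : M5ˣ} (hg : g ∈ Lo Γ) : (g : M5)ᵀ * Om * g = Om := by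
  unfold Lo at hg
  induction hg using Subgroup.closure_induction with
  | mem x hx =>
    obtain ⟨⟨γ, -, rfl⟩, h5⟩ := hx
    exact iso_of_pow h5
  | one => simp
  | mul x y _ _ hx hy => exact iso_mul hx hy
  | inv x _ hx =>
    have h1 : ((x⁻¹ : M5ˣ) : M5)ᵀ * Om * ((x⁻¹ : M5ˣ) : M5) =
        ((x : M5) * ((x⁻¹ : M5ˣ) : M5))ᵀ * Om * ((x : M5) * ((x⁻¹ : M5ˣ) : M5)) := by
      rw [Matrix.transpose_mul]
      calc ((x⁻¹ : M5ˣ) : M5)ᵀ * Om * ((x⁻¹ : M5ˣ) : M5) =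
          ((x⁻¹ : M5ˣ) : M5)ᵀ * ((x : M5)ᵀ * Om * x) * ((x⁻¹ : M5ˣ) : M5) := by rw [hx]
        _ = _ := by simp only [Matrix.mul_assoc]
    rw [h1, Units.mul_inv]
    simp

include h

theorem gA_mem_map : gA ∈ Γ.map act := ⟨_, h.indu (cjQ_mem _), act_cjQ_x1⟩

theorem gA_mem : gA ∈ Lo Γ := mem_Lo h.gA_mem_map gA_pow_five

/-- every 5-subgroup is conjugate into `⟨gA⟩` -/
theorem syl' (P : Subgroup M5ˣ) (hP : P ≤ Γ.map act) (hP5 : IsPGroup 5 P) :
    ∃ g ∈ Γ.map act, ∀ x ∈ P, g * x * g⁻¹ ∈ Subgroup.zpowers gA := by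
  have hfin : Finite (MulAut P1) := inferInstance
  -- the preimage
  have hker : IsPGroup 5 act.ker := by
    rw [ker_act]
    have h1 : IsPGroup 5 (⊤ : Subgroup P1) := by
      apply IsPGroup.of_card (n := 5)
      rw [Subgroup.card_top, card_Q1, Nat.card_eq_fintype_card, ZMod.card]
    have h2 := h1.map (MulAut.conj : P1 →* MulAut P1)
    rwa [← MonoidHom.range_eq_map] at h2
  have h1 : IsPGroup 5 (P.comap act) := hP5.comap_of_ker_isPGroup act hker
  have h2 : IsPGroup 5 (P.comap act ⊓ Γ : Subgroup (MulAut P1)) := h1.to_le inf_le_left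
  obtain ⟨g, hg, h3⟩ := h.syl _ inf_le_right h2
  refine ⟨act g, ⟨g, hg, rfl⟩, ?_⟩
  intro x hx
  obtain ⟨γ, hγ, rfl⟩ := hP hx
  have h4 := h3 γ ⟨hx, hγ⟩
  rw [mem_autInd_iff, map_mul, map_mul, map_inv] at h4
  exact h4

theorem card25 : ¬ 25 ∣ Nat.card (Lo Γ) := by
  intro h25
  have h5 : Fact (Nat.Prime 5) := ⟨by norm_num⟩
  obtain ⟨P, hP⟩ := Sylow.exists_subgroup_card_pow_prime 5 (n := 2) (G := Lo Γ) (by simpa using h25)
  have hP5 : IsPGroup 5 (P.map (Lo Γ).subtype) := (IsPGroup.of_card hP).map _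
  have hle : P.map (Lo Γ).subtype ≤ Γ.map act := (Subgroup.map_subtype_le P).trans Lo_le
  obtain ⟨g, -, hg⟩ := h.syl' _ hle hP5
  have hc : Nat.card (P.map (Lo Γ).subtype) = 25 := by
    rw [Subgroup.card_map_of_injective (Subgroup.subtype_injective _), hP]; norm_num
  have hc2 : Nat.card (P.map (Lo Γ).subtype) ≤ Nat.card (Subgroup.zpowers gA) :=
    Nat.card_le_card_of_injective (fun x => (⟨g * x * g⁻¹, hg x x.2⟩ : Subgroup.zpowers gA)) (by
      intro a b hab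
      have h1 : g * (a : M5ˣ) * g⁻¹ = g * b * g⁻¹ := congrArg Subtype.val hab
      exact Subtype.ext (mul_left_cancel (mul_right_cancel h1)))
  rw [hc, Nat.card_zpowers, orderOf_gA] at hc2
  omega

/-- Frattini argument -/
theorem frattini {g : M5ˣ} (hg : g ∈ Γ.map act) : ∃ l ∈ Lo Γ, ∃ k : ℕ, (l * g) * gA * (l * g)⁻¹ = gA ^ k := by
  have h5 : Fact (Nat.Prime 5) := ⟨by norm_num⟩
  set L := Lo Γ with hL
  have hgA : gA ∈ L := h.gA_mem
  have hgg : g * gA * g⁻¹ ∈ L := Lo_conj hg hgA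
  let a : L := ⟨gA, hgA⟩
  let b : L := ⟨g * gA * g⁻¹, hgg⟩
  have ha : orderOf a = 5 := by
    rw [← Subgroup.orderOf_coe]; exact orderOf_gA
  have hb : orderOf b = 5 := by
    rw [← Subgroup.orderOf_coe]
    show orderOf (g * gA * g⁻¹) = 5
    apply orderOf_eq_prime
    · rw [conj_pow, gA_pow_five, mul_one, mul_inv_cancel]
    · intro h1
      apply gA_ne_one
      have h2 : gA = g⁻¹ * (g * gA * g⁻¹) * g := by group
      rw [h2, h1]; group
  have hpa : IsPGroup 5 (Subgroup.zpowers a) := IsPGroup.of_card (n := 1) (by rw [Nat.card_zpowers, ha]; norm_num)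
  have hpb : IsPGroup 5 (Subgroup.zpowers b) := IsPGroup.of_card (n := 1) (by rw [Nat.card_zpowers, hb]; norm_num)
  obtain ⟨A, hA⟩ := hpa.exists_le_sylow
  obtain ⟨B, hB⟩ := hpb.exists_le_sylow
  -- the order of a Sylow subgroup
  have hcard : ∀ Q : Sylow 5 L, ∀ c : L, orderOf c = 5 → Subgroup.zpowers c ≤ Q → (Q : Subgroup L) = Subgroup.zpowers c := by
    intro Q c hc hcQ
    symm
    apply Subgroup.eq_of_le_of_card_ge hcQ
    rw [Nat.card_zpowers, hc]
    obtain ⟨n, hn⟩ := IsPGroup.iff_card.1 Q.isPGroup'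
    have h1 : n ≤ 1 := by
      by_contra h2
      apply h.card25
      rw [← hL]
      refine Dvd.dvd.trans ?_ (Subgroup.card_subgroup_dvd_card (Q : Subgroup L))
      rw [hn]
      exact pow_dvd_pow 5 (show 2 ≤ n by omega)
    rw [hn]
    calc 5 ^ n ≤ 5 ^ 1 := Nat.pow_le_pow_right (by norm_num) h1
      _ = 5 := by norm_num
  have hAe := hcard A a ha hA
  have hBe := hcard B b hb hB
  obtain ⟨l, hl⟩ := MulAction.exists_smul_eq L B A
  refine ⟨l, l.2, ?_⟩
  have h1 : l * b * l⁻¹ ∈ (A : Subgroup L) := by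
    rw [← hl]
    have h2 : b ∈ (B : Subgroup L) := hB (Subgroup.mem_zpowers b)
    exact Sylow.smul_def (g := l) (P := B) ▸ Subgroup.smul_mem_pointwise_smul b (MulAut.conj l) _ h2
  rw [hAe] at h1
  obtain ⟨k, hk⟩ := Subgroup.mem_zpowers_iff.1 h1
  have h3 : ((l : L) : M5ˣ) * g * gA * (((l : L) : M5ˣ) * g)⁻¹ ∈ Subgroup.zpowers gA := by
    refine ⟨k, ?_⟩
    have h4 : ((a ^ k : L) : M5ˣ) = ((l * b * l⁻¹ : L) : M5ˣ) := congrArg Subtype.val hk
    show gA ^ k = _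
    have h5 : ((a ^ k : L) : M5ˣ) = gA ^ k := by rw [Subgroup.coe_zpow]
    rw [← h5, h4]
    show (l : M5ˣ) * (g * gA * g⁻¹) * (l : M5ˣ)⁻¹ = _
    group
  exact mem_zpowers_iff.1 h3

/-- elements of `Γ` normalizing `⟨gA⟩` -/
theorem norm' {γ : MulAut P1} (hγ : γ ∈ Γ) (hk : ∃ k : ℕ, act γ * gA * (act γ)⁻¹ = gA ^ k) :
    ∃ (k : ℕ) (s t : (ZMod 5)ˣ), tor s t ∈ D ∧ (act γ : M5) = ((gA ^ k : M5ˣ) : M5) * mT s t := by
  obtain ⟨k, hk⟩ := hk
  have hn : NormAut ⊤ γ := by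
    intro x hx
    rw [mem_autInd_iff] at hx ⊢
    obtain ⟨j, hj⟩ := mem_zpowers_iff.1 hx
    rw [map_mul, map_mul, map_inv, hj]
    rw [mem_zpowers_iff]
    refine ⟨k * j, ?_⟩
    rw [← conj_pow, hk, ← pow_mul]
  obtain ⟨x, d, hd, hx⟩ := h.norm γ hγ hn
  obtain ⟨s, t, rfl⟩ := h.D_tor d hd
  obtain ⟨j, hj⟩ := act_cjQ x
  refine ⟨j, s, t, hd, ?_⟩
  -- the restriction of the torus element
  let δ : MulAut P1 := (cjQ x)⁻¹ * γ
  have hδ : IsRes (tor s t) δ := by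
    intro y
    have h1 : (cjQ x) (δ y) = γ y := by
      show (cjQ x) ((cjQ x)⁻¹ (γ y)) = γ y
      exact (cjQ x).apply_symm_apply _
    have h2 := cjQ_apply x (δ y)
    rw [h1, hx] at h2
    exact (mul_left_cancel (mul_right_cancel h2)).symm
  have h3 : γ = cjQ x * δ := by
    show γ = cjQ x * ((cjQ x)⁻¹ * γ); group
  rw [h3, map_mul, hj, Units.val_mul, act_tor hδ]

omit h in
/-- products of a unipotent and a diagonal matrix -/
theorem shape {k : ℕ} {s t : (ZMod 5)ˣ} {A : M5} (hA : A = ((gA ^ k : M5ˣ) : M5) * mT s t) :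
    A 1 0 = 0 ∧ A 2 0 = 0 ∧ A 3 0 = 0 ∧ A 2 1 = 0 ∧ A 3 1 = 0 ∧ A 3 2 = 0 ∧
      A 0 0 = s ^ 3 * t ∧ A 1 1 = s ^ 2 * t ∧ A 2 2 = s * t ∧ A 3 3 = t := by
  have h1 : ∃ r, ((gA ^ k : M5ˣ) : M5) = mX r := by
    refine ⟨-((k % 5 : ℕ) : ZMod 5), ?_⟩
    have h2 : gA ^ k = gA ^ (k % 5) := by
      conv_lhs => rw [← Nat.mod_add_div k 5, pow_add, pow_mul, gA_pow_five, one_pow, mul_one]
    rw [h2]
    exact gA_pow_coe ⟨k % 5, Nat.mod_lt _ (by norm_num)⟩
  obtain ⟨r, hr⟩ := h1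
  rw [hA, hr]
  refine ⟨?_, ?_, ?_, ?_, ?_, ?_, ?_, ?_, ?_, ?_⟩ <;>
    simp [mX, mT, Matrix.mul_apply, Fin.sum_univ_four]

end Par0

/-- the restriction of a torus element to `Q₁` -/
def resT (s t : (ZMod 5)ˣ) : MulAut P1 where
  toFun y := ⟨tor s t y, by
    have h : y.1.r = 0 := y.2
    show (s : ZMod 5) * y.1.r = 0
    rw [h, mul_zero]⟩
  invFun y := ⟨(tor s t).symm y, by
    have h : y.1.r = 0 := y.2
    show ((s⁻¹ : (ZMod 5)ˣ) : ZMod 5) * y.1.r = 0
    rw [h, mul_zero]⟩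
  left_inv y := Subtype.ext ((tor s t).symm_apply_apply _)
  right_inv y := Subtype.ext ((tor s t).apply_symm_apply _)
  map_mul' x y := Subtype.ext (map_mul (tor s t) _ _)

theorem resT_isRes (s t : (ZMod 5)ˣ) : IsRes (tor s t) (resT s t) := fun _ => rfl

theorem act_resT (s t : (ZMod 5)ˣ) : (act (resT s t) : M5) = mT s t := act_tor (resT_isRes s t)

/-- conjugation of `gA` by a torus element -/
theorem resT_conj (s t : (ZMod 5)ˣ) : act (resT s t) * gA * (act (resT s t))⁻¹ = gA ^ (s : ZMod 5).val := by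
  rw [mul_inv_eq_iff_eq_mul]
  apply Units.ext
  rw [Units.val_mul, Units.val_mul, act_resT]
  have h1 := gA_pow_coe ⟨(s : ZMod 5).val, ZMod.val_lt _⟩
  have h2 : (-((((⟨(s : ZMod 5).val, ZMod.val_lt _⟩ : Fin 5) : ℕ) : ZMod 5))) = -(s : ZMod 5) := by
    simp
  rw [h2] at h1
  have h3 : (((⟨(s : ZMod 5).val, ZMod.val_lt _⟩ : Fin 5) : ℕ)) = (s : ZMod 5).val := rfl
  rw [h3] at h1
  rw [h1]
  have h4 : (gA : M5) = mX (-1) := mX_neg_one.symm
  rw [h4]
  generalize (s : ZMod 5) = a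
  generalize (t : ZMod 5) = b
  revert a b
  decide +kernel

namespace Par0

variable {Γ : Subgroup (MulAut P1)} {D : Subgroup (MulAut (GU (ZMod 5)))} (h : Par0 Γ D)

include h

theorem resT_mem {s t : (ZMod 5)ˣ} (hd : tor s t ∈ D) : resT s t ∈ Γ := h.D_res _ hd _ (resT_isRes s t)

/-- the matrix of an element of `Γ` is a product -/
theorem exists_prod {γ : MulAut P1} (hγ : γ ∈ Γ) : ∃ l ∈ Lo Γ, ∃ (s t : (ZMod 5)ˣ), tor s t ∈ D ∧
    act γ = l * act (resT s t) := by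
  obtain ⟨l, hl, hk⟩ := h.frattini ⟨γ, hγ, rfl⟩
  obtain ⟨γ', hγ', rfl⟩ := Lo_le hl
  rw [← map_mul] at hk
  obtain ⟨k, s, t, hd, hm⟩ := h.norm' (Γ.mul_mem hγ' hγ) hk
  refine ⟨(act γ')⁻¹ * gA ^ k, Subgroup.mul_mem _ (Subgroup.inv_mem _ hl) (Subgroup.pow_mem _ h.gA_mem _), s, t, hd, ?_⟩
  have h1 : act (γ' * γ) = gA ^ k * act (resT s t) := by
    apply Units.ext
    rw [hm, Units.val_mul, act_resT]
  rw [map_mul] at h1
  rw [mul_assoc, ← h1]
  group

end Par0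

namespace Par5

open Par0

variable {Γ : Subgroup (MulAut P1)} {D : Subgroup (MulAut (GU (ZMod 5)))} (h : Par5 Γ D)

include h

theorem gh2_mem : gh2 ∈ Γ.map act := by
  let u : (ZMod 5)ˣ := ⟨2, 3, by decide, by decide⟩
  have h1 := h.resT_mem (h.htor u)
  refine ⟨_, h1, ?_⟩
  apply Units.ext
  rw [act_resT]
  show mT ((u⁻¹ : (ZMod 5)ˣ) : ZMod 5) ((u ^ 2 : (ZMod 5)ˣ) : ZMod 5) = mh2
  decide +kernel

theorem hyp : Hyp (Lo Γ) where
  iso _ hg := iso_of_mem hg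
  memA := h.gA_mem
  card := h.card25
  gen := by
    have h1 : Lo Γ ≤ Subgroup.closure {g | g ∈ Lo Γ ∧ g ^ 5 = 1} := by
      conv_lhs => unfold Lo
      rw [Subgroup.closure_le]
      intro g hg
      exact Subgroup.subset_closure ⟨mem_Lo hg.1 hg.2, hg.2⟩
    exact h1
  h2 g hg := Lo_conj h.gh2_mem hg
  irr1 := by
    intro hs
    apply h.nZ2
    intro γ hγ y hy
    obtain ⟨l, hl, s, t, -, hm⟩ := h.exists_prod hγ
    obtain ⟨a1, a2, a3⟩ := hs l hl
    obtain ⟨y1, y2, y3, y4⟩ := hy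
    have hco : co y = ![y.1.b, 0, 0, 0] := by
      ext i
      fin_cases i
      · rfl
      · exact y4
      · exact y3
      · exact y2
    have h1 := act_mulVec γ y
    rw [hm, Units.val_mul, act_resT, hco] at h1
    have e0 : ∀ i, co (γ y) i = (l : M5) i 0 * (s ^ 3 * t * y.1.b) := by
      intro i
      rw [← h1, ← mulVec_mulVec]
      have h2 : mT (s : ZMod 5) t *ᵥ ![y.1.b, 0, 0, 0] = ![s ^ 3 * t * y.1.b, 0, 0, 0] := by
        ext j
        fin_cases j <;> simp [mT, mulVec, dotProduct, Fin.sum_univ_four]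
      rw [h2]
      simp [mulVec, dotProduct, Fin.sum_univ_four]
    refine ⟨(γ y).2, ?_, ?_, ?_⟩
    · have := e0 3; rw [a3, zero_mul] at this; exact this
    · have := e0 2; rw [a2, zero_mul] at this; exact this
    · have := e0 1; rw [a1, zero_mul] at this; exact this
  irr2 := by
    intro hs
    apply h.nZ3
    intro γ hγ y hy
    obtain ⟨l, hl, s, t, -, hm⟩ := h.exists_prod hγ
    obtain ⟨a1, a2, a3, a4⟩ := hs l hl
    obtain ⟨y1, y2, y3⟩ := hy
    have hco : co y = ![y.1.b, y.1.c, 0, 0] := by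
      ext i
      fin_cases i
      · rfl
      · rfl
      · exact y3
      · exact y2
    have h1 := act_mulVec γ y
    rw [hm, Units.val_mul, act_resT, hco] at h1
    have e0 : ∀ i, co (γ y) i = (l : M5) i 0 * (s ^ 3 * t * y.1.b) + (l : M5) i 1 * (s ^ 2 * t * y.1.c) := by
      intro i
      rw [← h1, ← mulVec_mulVec]
      have h2 : mT (s : ZMod 5) t *ᵥ ![y.1.b, y.1.c, 0, 0] = ![s ^ 3 * t * y.1.b, s ^ 2 * t * y.1.c, 0, 0] := by
        ext j
        fin_cases j <;> simp [mT, mulVec, dotProduct, Fin.sum_univ_four]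
      rw [h2]
      simp [mulVec, dotProduct, Fin.sum_univ_four]
    refine ⟨(γ y).2, ?_, ?_⟩
    · have := e0 3; rw [a2, a4, zero_mul, zero_mul, add_zero] at this; exact this
    · have := e0 2; rw [a1, a3, zero_mul, zero_mul, add_zero] at this; exact this

end Par5

/-- the torus -/
abbrev TU := (ZMod 5)ˣ × (ZMod 5)ˣ

/-- the torus as a group of automorphisms -/
def torHom : TU →* MulAut (GU (ZMod 5)) where
  toFun x := tor x.1 x.2
  map_one' := by
    have h := tor_mul 1 1 1 1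
    rw [mul_one] at h
    exact mul_eq_left.1 h
  map_mul' x y := (tor_mul _ _ _ _).symm

theorem mT_mul (s t s' t' : ZMod 5) : mT s t * mT s' t' = mT (s * s') (t * t') := by
  ext i j
  fin_cases i <;> fin_cases j <;> simp [mT, Matrix.mul_apply, Fin.sum_univ_four] <;> ring

/-- the torus as a group of matrices -/
noncomputable def tau : TU →* M5ˣ where
  toFun x := act (resT x.1 x.2)
  map_one' := by
    apply Units.ext
    rw [act_resT]
    show mT 1 1 = 1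
    decide +kernel
  map_mul' x y := by
    apply Units.ext
    rw [Units.val_mul, act_resT, act_resT, act_resT, mT_mul]
    rfl

theorem tau_coe (x : TU) : (tau x : M5) = mT x.1 x.2 := act_resT _ _

theorem tau_conj (x : TU) : tau x * gA * (tau x)⁻¹ = gA ^ (x.1 : ZMod 5).val := resT_conj _ _

/-- the element `-1` of the torus -/
def um : TU := (1, ⟨4, 4, by decide, by decide⟩)
/-- the element `h₁(2)` of the torus -/
def uh : TU := (⟨4, 4, by decide, by decide⟩, ⟨2, 3, by decide, by decide⟩)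

theorem tau_um : tau um = -1 := by
  apply Units.ext
  rw [tau_coe]
  show mT 1 4 = -1
  decide +kernel

theorem tau_uh : tau uh = gh1 := by
  apply Units.ext
  rw [tau_coe]
  show mT 4 2 = mh1
  decide +kernel

/-- the subgroup `t² = 1` of the torus -/
def B8 : Subgroup TU where
  carrier := {x | x.2 ^ 2 = 1}
  one_mem' := one_pow 2
  mul_mem' := by
    intro x y hx hy
    show (x.2 * y.2) ^ 2 = 1
    have hx' : x.2 ^ 2 = 1 := hx
    have hy' : y.2 ^ 2 = 1 := hy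
    rw [mul_pow, hx', hy', mul_one]
  inv_mem' := by
    intro x hx
    show (x.2⁻¹) ^ 2 = 1
    have hx' : x.2 ^ 2 = 1 := hx
    rw [inv_pow, hx', inv_one]

theorem mem_B8 {x : TU} : x ∈ B8 ↔ x.2 ^ 2 = 1 := Iff.rfl

instance : DecidablePred (· ∈ B8) := fun x => decidable_of_iff (x.2 ^ 2 = 1) Iff.rfl

theorem card_B8 : Nat.card B8 = 8 := by
  rw [Nat.card_eq_fintype_card]
  decide +kernel

theorem card_TU : Nat.card TU = 16 := by
  rw [Nat.card_eq_fintype_card]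
  decide +kernel

theorem eq_top_or (B : Subgroup TU) (hB : B8 ≤ B) : B = B8 ∨ B = ⊤ := by
  by_cases h : ∃ x ∈ B, x ∉ B8
  · right
    obtain ⟨x, hx, hx8⟩ := h
    rw [eq_top_iff]
    intro y _
    by_cases hy : y ∈ B8
    · exact hB hy
    · have h1 : y * x⁻¹ ∈ B8 := by
        rw [mem_B8] at *
        show (y.2 * x.2⁻¹) ^ 2 = 1
        have h2 : ∀ a b : (ZMod 5)ˣ, a ^ 2 ≠ 1 → b ^ 2 ≠ 1 → (a * b⁻¹) ^ 2 = 1 := by decide +kernel
        exact h2 _ _ hy hx8
      have h3 : y = y * x⁻¹ * x := by group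
      rw [h3]
      exact B.mul_mem (hB h1) hx
  · left
    refine le_antisymm (fun x hx => ?_) hB
    by_contra h1
    exact h ⟨x, hx, h1⟩

/-- the four elements of the torus which may lie in `L` -/
theorem four (x : TU) (h1 : (x.1 : ZMod 5) ^ 3 * (x.2 : ZMod 5) ^ 2 = 1) (h2 : (x.1 : ZMod 5) = 1 ∨ (x.1 : ZMod 5) = 4) :
    x = 1 ∨ x = um ∨ x = uh ∨ x = uh * um := by
  revert x
  decide +kernel

theorem B8_gen (B : Subgroup TU) (h1 : ∀ t : (ZMod 5)ˣ, (t⁻¹, t ^ 2) ∈ B) (h2 : um ∈ B) : B8 ≤ B := by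
  intro x hx
  rw [mem_B8] at hx
  have h3 : ∀ x : TU, x.2 ^ 2 = 1 → ∃ t : (ZMod 5)ˣ, x = (t⁻¹, t ^ 2) ∨ x = (t⁻¹, t ^ 2) * um := by decide +kernel
  obtain ⟨t, h | h⟩ := h3 x hx
  · rw [h]; exact h1 t
  · rw [h]; exact B.mul_mem (h1 t) h2

namespace Par0

variable {Γ : Subgroup (MulAut P1)} {D : Subgroup (MulAut (GU (ZMod 5)))} (h : Par0 Γ D)

include h

theorem tau_mem {x : TU} (hx : torHom x ∈ D) : tau x ∈ Γ.map act := ⟨_, h.resT_mem hx, rfl⟩

/-- a torus element of the automizer belongs to `D` -/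
theorem tor_mem {x : TU} (hx : tau x ∈ Γ.map act) : torHom x ∈ D := by
  obtain ⟨γ, hγ, hm⟩ := hx
  obtain ⟨k, s, t, hd, h1⟩ := h.norm' hγ ⟨_, by rw [hm]; exact tau_conj x⟩
  obtain ⟨-, -, -, -, -, -, -, -, e2, e3⟩ := shape h1
  rw [hm, tau_coe] at e2 e3
  have f3 : (x.2 : ZMod 5) = t := e3
  have f2 : (x.1 : ZMod 5) * x.2 = s * t := e2
  have g3 : x.2 = t := Units.ext f3
  have g2 : x.1 = s := by
    apply Units.ext
    rw [f3] at f2
    exact mul_right_cancel₀ t.ne_zero f2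
  have h4 : x = (s, t) := Prod.ext g2 g3
  rw [h4]
  exact hd

/-- `D` as a subgroup of the torus -/
theorem D_eq : D = (D.comap torHom).map torHom := by
  apply le_antisymm
  · intro d hd
    obtain ⟨s, t, rfl⟩ := h.D_tor d hd
    exact ⟨(s, t), hd, rfl⟩
  · rintro _ ⟨x, hx, rfl⟩
    exact hx

theorem mem_iff {γ : MulAut P1} : γ ∈ Γ ↔ ∃ l ∈ Lo Γ, ∃ x ∈ D.comap torHom, act γ = l * tau x := by
  constructor
  · intro hγ
    obtain ⟨l, hl, s, t, hd, hm⟩ := h.exists_prod hγ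
    exact ⟨l, hl, (s, t), hd, hm⟩
  · rintro ⟨l, hl, x, hx, hm⟩
    obtain ⟨δ, hδ, hm'⟩ : l * tau x ∈ Γ.map act := Subgroup.mul_mem _ (Lo_le hl) (h.tau_mem hx)
    have h1 : act (δ⁻¹ * γ) = 1 := by rw [map_mul, map_inv, hm, hm', inv_mul_cancel]
    have h2 := h.indu (inn_le (mem_inn_of_act h1))
    have h3 : γ = δ * (δ⁻¹ * γ) := by group
    rw [h3]
    exact Γ.mul_mem hδ h2

theorem ker_le : act.ker ≤ Γ := by
  rw [ker_act]
  exact inn_le.trans h.indu

/-- uniqueness of `Γ` -/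
theorem uniq' {Γ' : Subgroup (MulAut P1)} {D' : Subgroup (MulAut (GU (ZMod 5)))} (h' : Par0 Γ' D') (hL : Lo Γ = Lo Γ')
    (hD : D.comap torHom = D'.comap torHom) : Γ = Γ' ∧ D = D' := by
  refine ⟨?_, ?_⟩
  · ext γ
    rw [h.mem_iff, h'.mem_iff, hL, hD]
  · rw [h.D_eq, h'.D_eq, hD]

/-- the order of the automizer modulo inner automorphisms -/
theorem card_eq : Nat.card (Γ.map act) * Nat.card (((Lo Γ).comap tau : Subgroup TU)) =
    Nat.card (Lo Γ) * Nat.card (D.comap torHom) := by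
  set G : Subgroup M5ˣ := Γ.map act with hG
  let L : Subgroup G := (Lo Γ).subgroupOf G
  have hn : L.Normal := ⟨fun n hn g => by
    show ((g * n * g⁻¹ : G) : M5ˣ) ∈ Lo Γ
    exact Lo_conj g.2 hn⟩
  have hLc : Nat.card L = Nat.card (Lo Γ) := Nat.card_congr (Subgroup.subgroupOfEquivOfLe Lo_le).toEquiv
  -- the homomorphism
  let f : (D.comap torHom : Subgroup TU) →* G ⧸ L :=
    (QuotientGroup.mk' L).comp
      { toFun := fun x => ⟨tau x, h.tau_mem x.2⟩
        map_one' := by ext1; exact map_one tau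
        map_mul' := fun x y => by ext1; exact map_mul tau _ _ }
  have hf : Function.Surjective f := by
    intro y
    obtain ⟨⟨g, γ, hγ, rfl⟩, rfl⟩ := QuotientGroup.mk'_surjective L y
    obtain ⟨l, hl, s, t, hd, hm⟩ := h.exists_prod hγ
    refine ⟨⟨(s, t), hd⟩, ?_⟩
    have hx : ∃ x : G, (x : M5ˣ) = tau (s, t) := ⟨⟨_, h.tau_mem hd⟩, rfl⟩
    show (QuotientGroup.mk' L) ⟨tau (s, t), h.tau_mem hd⟩ = _
    rw [← div_eq_one, ← map_div]
    rw [← MonoidHom.mem_ker, QuotientGroup.ker_mk']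
    show tau (s, t) / act γ ∈ Lo Γ
    rw [hm]
    have h2 : tau (s, t) / (l * act (resT s t)) = l⁻¹ := by
      show tau (s, t) / (l * tau (s, t)) = l⁻¹
      rw [div_eq_mul_inv]; group
    rw [h2]
    exact Subgroup.inv_mem _ hl
  have hk : Nat.card f.ker = Nat.card ((Lo Γ).comap tau : Subgroup TU) := by
    apply Nat.card_congr
    refine ⟨fun x => ⟨x.1.1, ?_⟩, fun x => ⟨⟨x.1, ?_⟩, ?_⟩, ?_, ?_⟩
    · have h1 : f x.1 = 1 := x.2
      exact (QuotientGroup.eq_one_iff (N := L) _).1 h1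
    · exact h.tor_mem (Lo_le x.2)
    · exact (QuotientGroup.eq_one_iff (N := L) _).2 x.2
    · intro x; rfl
    · intro x; rfl
  have h1 : Nat.card (G ⧸ L) * Nat.card f.ker = Nat.card (D.comap torHom : Subgroup TU) := by
    rw [Subgroup.card_eq_card_quotient_mul_card_subgroup f.ker,
      Nat.card_congr (QuotientGroup.quotientKerEquivOfSurjective f hf).toEquiv]
  have h2 : Nat.card G = Nat.card (G ⧸ L) * Nat.card L := Subgroup.card_eq_card_quotient_mul_card_subgroup L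
  rw [h2, hLc, ← hk, ← h1]
  ring

/-- the order of the automizer -/
theorem card_Γ : Nat.card Γ = 625 * Nat.card (Γ.map act) := by
  have h1 : Nat.card act.ker = 625 := by
    rw [ker_act]
    have h2 : Nat.card (Inn P1) = (Subgroup.center P1).index := by
      have h3 : (MulAut.conj : P1 →* MulAut P1).ker = Subgroup.center P1 := by
        ext x
        rw [MonoidHom.mem_ker, Subgroup.mem_center_iff]
        constructor
        · intro hx g
          have h4 : MulAut.conj x g = g := by rw [hx]; rfl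
          rw [MulAut.conj_apply] at h4
          calc g * x = x * g * x⁻¹ * x := by rw [h4]
            _ = x * g := by group
        · intro hx
          ext1 g
          rw [MulAut.conj_apply, ← hx g]
          show g * x * x⁻¹ = g
          group
      rw [← h3, Subgroup.index_ker]
    have h5 : Nat.card (Subgroup.center P1) = 5 := by
      have h6 : Nat.card (Subgroup.center P1) = Nat.card (ZMod 5) := by
        apply Nat.card_congr
        refine ⟨fun y => y.1.1.z, fun t => ⟨el 0 t, (mem_center_iff _).2 (co_el _ _)⟩, ?_, ?_⟩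
        · rintro ⟨y, hy⟩
          apply Subtype.ext
          show el 0 y.1.z = y
          rw [mem_center_iff] at hy
          conv_rhs => rw [eq_el y, hy]
        · intro t; rfl
      rw [h6, Nat.card_eq_fintype_card, ZMod.card]
    have h6 : Nat.card P1 = 3125 := by
      rw [card_Q1, Nat.card_eq_fintype_card, ZMod.card]; norm_num
    have h7 := Subgroup.card_mul_index (Subgroup.center P1)
    rw [h5, h6] at h7
    rw [h2]; omega
  have h8 : Nat.card (Γ.map act) = (act.ker.subgroupOf Γ).index := by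
    have h9 : Γ.map act = (act.comp Γ.subtype).range := by
      rw [MonoidHom.range_comp, Subgroup.range_subtype]
    rw [h9, ← Subgroup.index_ker]
    rfl
  have h10 := Subgroup.card_mul_index (act.ker.subgroupOf Γ)
  rw [← h8, Nat.card_congr (Subgroup.subgroupOfEquivOfLe h.ker_le).toEquiv, h1] at h10
  exact h10.symm

end Par0

namespace Par5

open Par0

variable {Γ : Subgroup (MulAut P1)} {D : Subgroup (MulAut (GU (ZMod 5)))} (h : Par5 Γ D)

include h

theorem htor' (t : (ZMod 5)ˣ) : (t⁻¹, t ^ 2) ∈ D.comap torHom := h.htor t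

theorem neg_one_mem (h1 : (-1 : M5ˣ) ∈ Lo Γ) : um ∈ D.comap torHom := by
  rw [← tau_um] at h1
  exact h.tor_mem (Lo_le h1)

theorem B8_le (h1 : (-1 : M5ˣ) ∈ Lo Γ) : B8 ≤ D.comap torHom :=
  B8_gen _ h.htor' (h.neg_one_mem h1)

theorem D_cases (h1 : (-1 : M5ˣ) ∈ Lo Γ) : D.comap torHom = B8 ∨ D.comap torHom = ⊤ :=
  eq_top_or _ (h.B8_le h1)

theorem D_top (h1 : (-1 : M5ˣ) ∈ Lo Γ) (h2 : gh1 ∈ Lo Γ) : D.comap torHom = ⊤ := by
  rcases h.D_cases h1 with h3 | h3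
  · exfalso
    rw [← tau_uh] at h2
    have h4 : uh ∈ D.comap torHom := h.tor_mem (Lo_le h2)
    rw [h3, mem_B8] at h4
    revert h4
    decide +kernel
  · exact h3

/-- the elements of the torus in `L` -/
theorem comap_tau (hM1 : StM1) {x : TU} (hx : tau x ∈ Lo Γ) : x = 1 ∨ x = um ∨ x = uh ∨ x = uh * um := by
  apply four
  · have h1 := iso_of_mem hx
    rw [tau_coe] at h1
    have h2 := congrFun (congrFun h1 0) 3
    simp [mT, Om, Matrix.mul_apply, Fin.sum_univ_four] at h2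
    linear_combination h2
  · obtain ⟨-, -, -, h4, -⟩ := hM1 _ h.hyp
    have h5 := h4 _ hx _ (tau_conj x)
    have h6 := gA_pow_coe ⟨(x.1 : ZMod 5).val, ZMod.val_lt _⟩
    have h7 : (-((((⟨(x.1 : ZMod 5).val, ZMod.val_lt _⟩ : Fin 5) : ℕ) : ZMod 5))) = -(x.1 : ZMod 5) := by
      simp
    rw [h7] at h6
    have h8 : (((⟨(x.1 : ZMod 5).val, ZMod.val_lt _⟩ : Fin 5) : ℕ)) = (x.1 : ZMod 5).val := rfl
    rw [h8] at h6
    have e1 := congrFun (congrFun h6 2) 3
    rcases h5 with h5 | h5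
    · left
      rw [h5] at e1
      have e2 : (gA : M5) 2 3 = 1 := rfl
      rw [e2] at e1
      have e3 : mX (-(x.1 : ZMod 5)) 2 3 = (x.1 : ZMod 5) := by simp [mX]
      rw [e3] at e1
      exact e1.symm
    · right
      rw [h5] at e1
      have e2 : ((gA⁻¹ : M5ˣ) : M5) 2 3 = 4 := by
        show (mA ^ 4 : M5) 2 3 = 4
        decide +kernel
      rw [e2] at e1
      have e3 : mX (-(x.1 : ZMod 5)) 2 3 = (x.1 : ZMod 5) := by simp [mX]
      rw [e3] at e1
      exact e1.symm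

theorem card_two (hM1 : StM1) (h1 : (-1 : M5ˣ) ∈ Lo Γ) (h2 : gh1 ∉ Lo Γ) : Nat.card ((Lo Γ).comap tau : Subgroup TU) = 2 := by
  have h3 : ((Lo Γ).comap tau : Subgroup TU) = Subgroup.zpowers um := by
    apply le_antisymm
    · intro x hx
      rcases h.comap_tau hM1 hx with rfl | rfl | rfl | rfl
      · exact Subgroup.one_mem _
      · exact Subgroup.mem_zpowers _
      · exact absurd (tau_uh ▸ hx) h2
      · exfalso
        apply h2
        have h4 : tau (uh * um) ∈ Lo Γ := hx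
        rw [map_mul, tau_uh, tau_um] at h4
        have h5 := Subgroup.mul_mem _ h4 h1
        rwa [mul_assoc, neg_one_mul, neg_neg, mul_one] at h5
    · rw [Subgroup.zpowers_le]
      show tau um ∈ Lo Γ
      rw [tau_um]; exact h1
  rw [h3, Nat.card_zpowers]
  apply orderOf_eq_prime <;> decide +kernel

theorem card_four (hM1 : StM1) (h2 : gh1 ∈ Lo Γ) : Nat.card ((Lo Γ).comap tau : Subgroup TU) = 4 := by
  have h3 : ((Lo Γ).comap tau : Subgroup TU) = Subgroup.zpowers uh := by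
    have h6 : um = uh ^ 2 := by decide +kernel
    apply le_antisymm
    · intro x hx
      rcases h.comap_tau hM1 hx with rfl | rfl | rfl | rfl
      · exact Subgroup.one_mem _
      · rw [h6]; exact Subgroup.npow_mem_zpowers _ _
      · exact Subgroup.mem_zpowers _
      · rw [h6, ← pow_succ']; exact Subgroup.npow_mem_zpowers _ _
    · rw [Subgroup.zpowers_le]
      show tau uh ∈ Lo Γ
      rw [tau_uh]; exact h2
  rw [h3, Nat.card_zpowers]
  have h7 : orderOf uh = 2 ^ (1 + 1) := orderOf_eq_prime_pow (by decide +kernel) (by decide +kernel)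
  rw [h7]; norm_num

/-- **the classification of the automizers of `Q₁`** -/
theorem classify (hM : StM) (hM1 : StM1) (hM6 : StM6) :
    (Nat.card (Γ.map act) = 480 ∧ Lo Γ = LS ∧ D.comap torHom = ⊤) ∨
    (Nat.card (Γ.map act) = 2880 ∧ Lo Γ = LC ∧ D.comap torHom = ⊤) ∨
    (Nat.card (Γ.map act) = 7680 ∧ Lo Γ = LB ∧ D.comap torHom = ⊤) ∨
    (Nat.card (Γ.map act) = 1280 ∧ Lo Γ = LR ∧ gh1 ∉ LR ∧ D.comap torHom = ⊤) ∨
    (Nat.card (Γ.map act) = 640 ∧ Lo Γ = LR ∧ ((gh1 ∈ LR ∧ D.comap torHom = ⊤) ∨ (gh1 ∉ LR ∧ D.comap torHom = B8))) := by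
  obtain ⟨-, ⟨nS, nR, nC, nB, -⟩, hS, hC, hB, -⟩ := hM6
  have hc := h.card_eq
  have ct : Nat.card (⊤ : Subgroup TU) = 16 := by rw [Subgroup.card_top, card_TU]
  have c8 := card_B8
  rcases hM _ h.hyp with ⟨h1, h2⟩ | ⟨h1, h2⟩ | ⟨h1, h2⟩ | ⟨h1, h2⟩
  · left
    rw [← h2] at nS hS
    have h3 := h.D_top nS hS
    have h4 := h.card_four hM1 hS
    rw [h1, h3, h4, ct] at hc
    exact ⟨by omega, h2, h3⟩
  · right; right; right
    rw [← h2] at nR
    by_cases hg : gh1 ∈ LR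
    · right
      rw [← h2] at hg
      have h3 := h.D_top nR hg
      have h4 := h.card_four hM1 hg
      rw [h1, h3, h4, ct] at hc
      exact ⟨by omega, h2, Or.inl ⟨h2 ▸ hg, h3⟩⟩
    · rw [← h2] at hg
      have h4 := h.card_two hM1 nR hg
      rcases h.D_cases nR with h3 | h3
      · right
        rw [h1, h3, h4, c8] at hc
        exact ⟨by omega, h2, Or.inr ⟨h2 ▸ hg, h3⟩⟩
      · left
        rw [h1, h3, h4, ct] at hc
        exact ⟨by omega, h2, h2 ▸ hg, h3⟩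
  · right; left
    rw [← h2] at nC hC
    have h3 := h.D_top nC hC
    have h4 := h.card_four hM1 hC
    rw [h1, h3, h4, ct] at hc
    exact ⟨by omega, h2, h3⟩
  · right; right; left
    rw [← h2] at nB hB
    have h3 := h.D_top nB hB
    have h4 := h.card_four hM1 hB
    rw [h1, h3, h4, ct] at hc
    exact ⟨by omega, h2, h3⟩

/-- **the automizer of `Q₁` is determined by its order** -/
theorem uniq (hM : StM) (hM1 : StM1) (hM6 : StM6) {Γ' : Subgroup (MulAut P1)} {D' : Subgroup (MulAut (GU (ZMod 5)))}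
    (h' : Par5 Γ' D') (hc : Nat.card (Γ.map act) = Nat.card (Γ'.map act)) : Γ = Γ' ∧ D = D' := by
  have h1 := h.classify hM hM1 hM6
  have h2 := h'.classify hM hM1 hM6
  rw [← hc] at h2
  rcases h1 with ⟨a, b, c⟩ | ⟨a, b, c⟩ | ⟨a, b, c⟩ | ⟨a, b, -, c⟩ | ⟨a, b, c⟩ <;>
  rcases h2 with ⟨a', b', c'⟩ | ⟨a', b', c'⟩ | ⟨a', b', c'⟩ | ⟨a', b', -, c'⟩ | ⟨a', b', c'⟩ <;>
  first
  | (exfalso; omega)
  | (apply h.uniq' h'.toPar0 (b.trans b'.symm)
     first
     | exact c.trans c'.symm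
     | (rcases c with ⟨c1, c2⟩ | ⟨c1, c2⟩ <;> rcases c' with ⟨d1, d2⟩ | ⟨d1, d2⟩ <;>
        first | exact c2.trans d2.symm | exact absurd c1 d1 | exact absurd d1 c1))

end Par5

end Cfsg.Agent.H770.QF
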