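import Cfsg.Agent.H650.GU.Sub
import Cfsg.Agent.H24.Q5.Mat
import Cfsg.Prelude.Def_FusionSystem

/-!
# S5211, block q = 5: the action of `Aut(Q₁)` on `Q₁/Z₁` (helper770)

* `act : MulAut P1 →* M5ˣ` with kernel `Inn P1` (`ker_act`);
* `act_cjQ_x1`, `act_tor` : the matrices of conjugations and torus elements.
-/

set_option autoImplicit false
set_option linter.unusedSimpArgs false

namespace Cfsg.Agent.H770.QF

open Cfsg Cfsg.Agent.H650.G Cfsg.Agent.H650.G.GU Cfsg.Agent.H24.Q5 Matrix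

instance : Fact (Nat.Prime 5) := ⟨by norm_num⟩

theorem three_ne : (3 : ZMod 5) ≠ 0 := by decide

/-- `Q₁` over the field with five elements -/
abbrev P1 : Subgroup (GU (ZMod 5)) := Q1 (ZMod 5)

/-- the coordinates modulo `Z₁` -/
def co (y : P1) : Fin 4 → ZMod 5 := ![y.1.b, y.1.c, y.1.d, y.1.e]

/-- the element with given coordinates -/
def el (v : Fin 4 → ZMod 5) (z : ZMod 5) : P1 := ⟨⟨0, v 0, v 1, v 2, v 3, z⟩, rfl⟩

theorem co_el (v : Fin 4 → ZMod 5) (z : ZMod 5) : co (el v z) = v := by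
  ext i; fin_cases i <;> rfl

theorem eq_el (y : P1) : y = el (co y) y.1.z := by
  apply Subtype.ext
  obtain ⟨⟨r, b, c, d, e, z⟩, h⟩ := y
  obtain rfl : r = 0 := h
  rfl

theorem co_mul (x y : P1) : co (x * y) = co x + co y := by
  have hy : y.1.r = 0 := y.2
  ext i
  fin_cases i
  · show (x.1 * y.1).b = x.1.b + y.1.b
    rw [mul_b, hy]; ring
  · show (x.1 * y.1).c = x.1.c + y.1.c
    rw [mul_c, hy]; ring
  · show (x.1 * y.1).d = x.1.d + y.1.d
    rw [mul_d, hy]; ring
  · rfl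

theorem co_one : co 1 = 0 := by
  ext i; fin_cases i <;> rfl

/-- `co` as a homomorphism -/
def coHom : P1 →* Multiplicative (Fin 4 → ZMod 5) where
  toFun y := Multiplicative.ofAdd (co y)
  map_one' := by rw [co_one]; rfl
  map_mul' x y := by rw [co_mul]; rfl

theorem co_inv (y : P1) : co y⁻¹ = - co y := by
  have h := co_mul y y⁻¹
  rw [mul_inv_cancel, co_one] at h
  exact (neg_eq_of_add_eq_zero_right h.symm).symm

/-- the symplectic form -/
def om (v w : Fin 4 → ZMod 5) : ZMod 5 := v 0 * w 3 - v 3 * w 0 + 3 * (v 1 * w 2 - v 2 * w 1)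

theorem comm_eq (x y : P1) : x * y * x⁻¹ * y⁻¹ = el 0 (om (co x) (co y)) := by
  apply Subtype.ext
  have h := comm_Q1 (F := ZMod 5) x.2 y.2
  show x.1 * y.1 * x.1⁻¹ * y.1⁻¹ = _
  rw [h]
  ext
  · rfl
  · rfl
  · rfl
  · rfl
  · rfl
  · show y.1.e * x.1.b - x.1.e * y.1.b + 3 * (x.1.c * y.1.d - x.1.d * y.1.c) =
      x.1.b * y.1.e - x.1.e * y.1.b + 3 * (x.1.c * y.1.d - x.1.d * y.1.c)
    ring

theorem el_mul (v w : Fin 4 → ZMod 5) (s t : ZMod 5) : el v s * el w t = el (v + w) (s + t - v 3 * w 0 - 3 * v 2 * w 1) := by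
  apply Subtype.ext
  show (⟨0, v 0, v 1, v 2, v 3, s⟩ : GU (ZMod 5)) * ⟨0, w 0, w 1, w 2, w 3, t⟩ = _
  ext
  · show (0 : ZMod 5) + 0 = 0
    ring
  · show v 0 - 3 * 0 * v 1 + 3 * 0 ^ 2 * v 2 + v 3 * 0 ^ 3 + w 0 = (v + w) 0
    rw [Pi.add_apply]; ring
  · show v 1 - 2 * 0 * v 2 - v 3 * 0 ^ 2 + w 1 = (v + w) 1
    rw [Pi.add_apply]; ring
  · show v 2 + v 3 * 0 + w 2 = (v + w) 2
    rw [Pi.add_apply]; ring
  · rfl
  · show s + 3 * 0 * v 2 ^ 2 + 3 * v 3 * 0 ^ 2 * v 2 + v 3 ^ 2 * 0 ^ 3 + t - v 3 * w 0 - 3 * (v 2 + v 3 * 0) * w 1 =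
      s + t - v 3 * w 0 - 3 * v 2 * w 1
    ring

theorem el_zero_mul (w : Fin 4 → ZMod 5) (s t : ZMod 5) : el 0 s * el w t = el w (s + t) := by
  rw [el_mul]
  congr 1
  · rw [zero_add]
  · simp

theorem el_mul_zero (w : Fin 4 → ZMod 5) (s t : ZMod 5) : el w t * el 0 s = el w (s + t) := by
  rw [el_mul]
  congr 1
  · rw [add_zero]
  · simp [add_comm]

theorem el_inj {v w : Fin 4 → ZMod 5} {s t : ZMod 5} (h : el v s = el w t) : v = w ∧ s = t := by
  refine ⟨?_, ?_⟩
  · have := congrArg co h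
    rwa [co_el, co_el] at this
  · exact congrArg (fun y : P1 => y.1.z) h

/-- nondegeneracy -/
theorem om_nondeg {v : Fin 4 → ZMod 5} (h : ∀ w, om v w = 0) : v = 0 := by
  have h0 := h ![0, 0, 0, 1]
  have h1 := h ![0, 0, 1, 0]
  have h2 := h ![0, 1, 0, 0]
  have h3 := h ![1, 0, 0, 0]
  simp only [om, Matrix.cons_val_zero, Matrix.cons_val_one, Matrix.cons_val, mul_zero, mul_one, sub_zero, zero_sub,
    add_zero, zero_add, neg_eq_zero, mul_neg] at h0 h1 h2 h3
  have h3' : ∀ x : ZMod 5, 3 * x = 0 → x = 0 := by decide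
  ext i
  fin_cases i
  · exact h0
  · exact h3' _ h1
  · exact h3' _ h2
  · exact h3

theorem mem_center_iff (y : P1) : y ∈ Subgroup.center P1 ↔ co y = 0 := by
  rw [Subgroup.mem_center_iff]
  constructor
  · intro h
    apply om_nondeg
    intro w
    have h1 := comm_eq y (el w 0)
    rw [co_el] at h1
    have h2 : y * el w 0 * y⁻¹ * (el w 0)⁻¹ = 1 := by rw [← h (el w 0)]; group
    rw [h2] at h1
    exact (congrArg (fun y : P1 => y.1.z) h1).symm
  · intro h g
    have h1 := comm_eq g y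
    rw [h] at h1
    have h2 : om (co g) 0 = 0 := by simp [om]
    rw [h2] at h1
    have h3 : el 0 0 = 1 := rfl
    rw [h3] at h1
    have h4 : g * y = (g * y * g⁻¹ * y⁻¹) * (y * g) := by group
    rw [h4, h1, one_mul]

theorem co_apply_eq_zero (γ : MulAut P1) {y : P1} (h : co y = 0) : co (γ y) = 0 := by
  rw [← mem_center_iff] at h ⊢
  rw [Subgroup.mem_center_iff] at h ⊢
  intro g
  obtain ⟨g', rfl⟩ := γ.surjective g
  rw [← map_mul, h, map_mul]

/-- `co (γ y)` depends only on `co y` -/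
theorem co_apply_congr (γ : MulAut P1) {x y : P1} (h : co x = co y) : co (γ x) = co (γ y) := by
  have h1 : co (x * y⁻¹) = 0 := by rw [co_mul, co_inv, h, add_neg_cancel]
  have h2 := co_apply_eq_zero γ h1
  rw [map_mul, map_inv, co_mul, co_inv] at h2
  exact add_neg_eq_zero.1 h2

/-- the action as an additive map -/
def actA (γ : MulAut P1) : (Fin 4 → ZMod 5) →+ (Fin 4 → ZMod 5) where
  toFun v := co (γ (el v 0))
  map_zero' := co_apply_eq_zero γ (co_el _ _)
  map_add' v w := by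
    rw [← co_mul, ← map_mul]
    apply co_apply_congr
    rw [co_mul, co_el, co_el, co_el]

/-- the matrix of an automorphism -/
noncomputable def actM (γ : MulAut P1) : M5 := LinearMap.toMatrix' ((actA γ).toZModLinearMap 5)

theorem actM_mulVec (γ : MulAut P1) (y : P1) : actM γ *ᵥ co y = co (γ y) := by
  unfold actM
  rw [LinearMap.toMatrix'_mulVec]
  show co (γ (el (co y) 0)) = co (γ y)
  exact co_apply_congr γ (co_el _ _)

theorem ext_mulVec {A B : M5} (h : ∀ y : P1, A *ᵥ co y = B *ᵥ co y) : A = B := by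
  apply Matrix.ext_of_mulVec_single
  intro j
  have := h (el (Pi.single j 1) 0)
  rwa [co_el] at this

theorem actM_eq {γ : MulAut P1} {A : M5} (h : ∀ y : P1, co (γ y) = A *ᵥ co y) : actM γ = A :=
  ext_mulVec fun y => by rw [actM_mulVec, h]

theorem actM_one : actM 1 = 1 := actM_eq fun y => by rw [one_mulVec]; rfl

theorem actM_mul (γ δ : MulAut P1) : actM (γ * δ) = actM γ * actM δ :=
  actM_eq fun y => by rw [← mulVec_mulVec, actM_mulVec, actM_mulVec]; rfl

/-- the action as a homomorphism -/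
noncomputable def act : MulAut P1 →* M5ˣ :=
  MonoidHom.toHomUnits { toFun := actM, map_one' := actM_one, map_mul' := actM_mul }

theorem act_coe (γ : MulAut P1) : (act γ : M5) = actM γ := rfl

theorem act_mulVec (γ : MulAut P1) (y : P1) : (act γ : M5) *ᵥ co y = co (γ y) := actM_mulVec γ y

theorem act_eq {γ : MulAut P1} {A : M5ˣ} (h : ∀ y : P1, co (γ y) = (A : M5) *ᵥ co y) : act γ = A :=
  Units.ext (actM_eq h)

/-- the factor on the centre -/
noncomputable def mu (γ : MulAut P1) : ZMod 5 := (γ (el 0 1)).1.z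

theorem apply_center (γ : MulAut P1) (t : ZMod 5) : γ (el 0 t) = el 0 (mu γ * t) := by
  have h0 : ∀ t, co (γ (el 0 t)) = 0 := fun t => co_apply_eq_zero γ (co_el _ _)
  have h1 : ∀ t, γ (el 0 t) = el 0 (γ (el 0 t)).1.z := fun t => by
    conv_lhs => rw [eq_el (γ (el 0 t)), h0]
  -- additivity
  let f : ZMod 5 →+ ZMod 5 :=
    { toFun := fun t => (γ (el 0 t)).1.z
      map_zero' := by
        have : el 0 0 = 1 := rfl
        rw [this, map_one]; rfl
      map_add' := fun s t => by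
        have h2 : el 0 (s + t) = el 0 s * el 0 t := by rw [el_zero_mul]
        rw [h2, map_mul, h1 s, h1 t, el_zero_mul]
        rfl }
  have h3 : ∀ t : ZMod 5, f t = mu γ * t := by
    intro t
    have h4 := map_zsmul f t.val 1
    have h5 : ((t.val : ℤ)) • (1 : ZMod 5) = t := by
      rw [zsmul_eq_mul, mul_one]
      push_cast
      exact ZMod.natCast_zmod_val t
    rw [h5] at h4
    rw [h4, zsmul_eq_mul]
    show _ * mu γ = _
    push_cast
    rw [ZMod.natCast_zmod_val, mul_comm]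
  rw [h1]
  congr 1
  exact h3 t

theorem om_apply (γ : MulAut P1) (x y : P1) : om (co (γ x)) (co (γ y)) = mu γ * om (co x) (co y) := by
  have h1 := comm_eq (γ x) (γ y)
  have h2 := congrArg γ (comm_eq x y)
  rw [map_mul, map_mul, map_mul, map_inv, map_inv, apply_center, h1] at h2
  exact (el_inj h2).2

/-! ### Kernel and image -/

theorem mu_one : mu 1 = 1 := rfl

theorem mu_mul (γ δ : MulAut P1) : mu (γ * δ) = mu γ * mu δ := by
  have h := apply_center γ (mu δ)
  have h1 : (γ * δ) (el 0 1) = γ (el 0 (mu δ)) := by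
    show γ (δ (el 0 1)) = _
    rw [apply_center, mul_one]
  have h2 := apply_center (γ * δ) 1
  rw [h1, h, mul_one] at h2
  exact (el_inj h2).2.symm

theorem mu_pow (γ : MulAut P1) (n : ℕ) : mu (γ ^ n) = mu γ ^ n := by
  induction n with
  | zero => rw [pow_zero, pow_zero, mu_one]
  | succ n ih => rw [pow_succ, mu_mul, ih, pow_succ]

theorem mu_ne_zero (γ : MulAut P1) : mu γ ≠ 0 := by
  intro h
  have h1 := mu_mul γ γ⁻¹
  rw [mul_inv_cancel, mu_one, h, zero_mul] at h1
  exact one_ne_zero h1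

theorem om_eq (v w : Fin 4 → ZMod 5) : om v w = v ⬝ᵥ (Om *ᵥ w) := by
  simp only [om, Om, dotProduct, mulVec, Fin.sum_univ_four, Matrix.of_apply, Matrix.cons_val', Matrix.cons_val_zero,
    Matrix.cons_val_one, Matrix.cons_val, Matrix.cons_val_fin_one]
  ring

theorem iso (γ : MulAut P1) : (act γ : M5)ᵀ * Om * (act γ : M5) = mu γ • Om := by
  apply Matrix.ext
  intro i j
  have h : ∀ v w : Fin 4 → ZMod 5, v ⬝ᵥ (((act γ : M5)ᵀ * Om * (act γ : M5)) *ᵥ w) = v ⬝ᵥ ((mu γ • Om) *ᵥ w) := by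
    intro v w
    have h1 := om_apply γ (el v 0) (el w 0)
    rw [co_el, co_el, ← act_mulVec, ← act_mulVec, co_el, co_el, om_eq, om_eq] at h1
    rw [Matrix.smul_mulVec, dotProduct_smul, smul_eq_mul, ← h1, ← mulVec_mulVec, ← mulVec_mulVec]
    rw [Matrix.dotProduct_mulVec v, Matrix.vecMul_transpose]
  have h2 := h (Pi.single i 1) (Pi.single j 1)
  simpa using h2

theorem iso_of_pow {γ : MulAut P1} (h : (act γ) ^ 5 = 1) : (act γ : M5)ᵀ * Om * (act γ : M5) = Om := by
  have h1 := iso γ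
  have h5 := iso (γ ^ 5)
  rw [map_pow, h] at h5
  have h6 : mu (γ ^ 5) = 1 := by
    have h7 := congrFun (congrFun h5 0) 3
    simp [Om] at h7
    exact h7.symm
  rw [mu_pow] at h6
  have h7 : ∀ x : ZMod 5, x ^ 5 = 1 → x = 1 := by decide
  rw [h1, h7 _ h6, one_smul]

/-- the kernel of the action consists of inner automorphisms -/
theorem mem_inn_of_act {γ : MulAut P1} (h : act γ = 1) : γ ∈ Inn P1 := by
  have hco : ∀ y : P1, co (γ y) = co y := fun y => by
    rw [← act_mulVec, h]; exact one_mulVec _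
  have hmu : mu γ = 1 := by
    have h1 := om_apply γ (el ![1, 0, 0, 0] 0) (el ![0, 0, 0, 1] 0)
    rw [hco, hco, co_el, co_el] at h1
    simp [om] at h1
    exact h1.symm
  -- the difference
  let f : (Fin 4 → ZMod 5) →+ ZMod 5 :=
    { toFun := fun v => (γ (el v 0)).1.z
      map_zero' := by
        have : el 0 0 = 1 := rfl
        rw [this, map_one]; rfl
      map_add' := fun v w => by
        have h2 : ∀ v t, γ (el v t) = el v (t + (γ (el v 0)).1.z) := by
          intro v t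
          have h3 : el v t = el 0 t * el v 0 := by rw [el_zero_mul, add_zero]
          rw [h3, map_mul, apply_center, hmu, one_mul]
          conv_lhs => rw [eq_el (γ (el v 0)), hco, co_el]
          rw [el_zero_mul]
        have h4 := congrArg γ (el_mul v w 0 0)
        have e1 : γ (el v 0) = el v (γ (el v 0)).1.z := by
          have := h2 v 0; rwa [zero_add] at this
        have e2 : γ (el w 0) = el w (γ (el w 0)).1.z := by
          have := h2 w 0; rwa [zero_add] at this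
        rw [map_mul, h2 (v + w), e1, e2, el_mul] at h4
        have h5 := (el_inj h4).2
        linear_combination -h5 }
  have hγ : ∀ v t, γ (el v t) = el v (t + f v) := by
    intro v t
    have h3 : el v t = el 0 t * el v 0 := by rw [el_zero_mul, add_zero]
    rw [h3, map_mul, apply_center, hmu, one_mul]
    conv_lhs => rw [eq_el (γ (el v 0)), hco, co_el]
    rw [el_zero_mul]
    rfl
  have hsm : ∀ (x : ZMod 5) (v : Fin 4 → ZMod 5), f (x • v) = x * f v := by
    intro x v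
    have h1 : x • v = (x.val) • v := by
      rw [← ZMod.natCast_zmod_val x, Nat.cast_smul_eq_nsmul, ZMod.natCast_zmod_val]
    rw [h1, map_nsmul, nsmul_eq_mul, ZMod.natCast_zmod_val]
  have hf : ∀ v : Fin 4 → ZMod 5, f v = v 0 * f ![1, 0, 0, 0] + v 1 * f ![0, 1, 0, 0] + v 2 * f ![0, 0, 1, 0] +
      v 3 * f ![0, 0, 0, 1] := by
    intro v
    rw [← hsm, ← hsm, ← hsm, ← hsm, ← map_add, ← map_add, ← map_add]
    congr 1
    ext i
    fin_cases i <;> simp
  set α := f ![1, 0, 0, 0] with hα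
  set β := f ![0, 1, 0, 0] with hβ
  set δ := f ![0, 0, 1, 0] with hδ
  set ε := f ![0, 0, 0, 1] with hε
  refine ⟨el ![ε, 2 * δ, -(2 * β), -α] 0, ?_⟩
  ext1 y
  have h1 := comm_eq (el ![ε, 2 * δ, -(2 * β), -α] 0) y
  rw [co_el] at h1
  have h2 : MulAut.conj (el ![ε, 2 * δ, -(2 * β), -α] 0) y =
      (el ![ε, 2 * δ, -(2 * β), -α] 0 * y * (el ![ε, 2 * δ, -(2 * β), -α] 0)⁻¹ * y⁻¹) * y := by
    rw [MulAut.conj_apply]; group
  rw [h2, h1]
  conv_lhs => rw [eq_el y]
  conv_rhs => rw [eq_el y]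
  rw [hγ, el_zero_mul]
  congr 1
  rw [hf (co y), co_el]
  simp only [om, Matrix.cons_val_zero, Matrix.cons_val_one, Matrix.cons_val]
  have h6 : (6 : ZMod 5) = 1 := by decide
  linear_combination (δ * co y 2 + β * co y 1) * h6

theorem act_inn {γ : MulAut P1} (h : γ ∈ Inn P1) : act γ = 1 := by
  obtain ⟨g, rfl⟩ := h
  apply act_eq
  intro y
  rw [MulAut.conj_apply, co_mul, co_mul, co_inv, Units.val_one, one_mulVec]
  abel

theorem act_eq_one_iff {γ : MulAut P1} : act γ = 1 ↔ γ ∈ Inn P1 := ⟨mem_inn_of_act, act_inn⟩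

theorem ker_act : act.ker = Inn P1 := by
  ext γ
  rw [MonoidHom.mem_ker, act_eq_one_iff]

/-! ### Conjugations and torus elements -/

/-- the matrix of a conjugation -/
def mX (r : ZMod 5) : M5 := !![1, 3 * r, 3 * r ^ 2, -r ^ 3; 0, 1, 2 * r, -r ^ 2; 0, 0, 1, -r; 0, 0, 0, 1]

theorem mX_neg_one : mX (-1) = mA := by decide +kernel

/-- conjugation on `Q₁` -/
def cjQ (x : GU (ZMod 5)) : MulAut P1 := MulAut.conjNormal x

theorem cjQ_apply (x : GU (ZMod 5)) (y : P1) : ((cjQ x y : P1) : GU (ZMod 5)) = x * y * x⁻¹ :=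
  MulAut.conjNormal_apply x y

theorem act_cjQ_coe (x : GU (ZMod 5)) : (act (cjQ x) : M5) = mX x.r := by
  refine actM_eq fun y => ?_
  have h := conj_Q1 (F := ZMod 5) x y.2
  rw [← cjQ_apply] at h
  have hb := congrArg GU.b h
  have hc := congrArg GU.c h
  have hd := congrArg GU.d h
  have he := congrArg GU.e h
  simp only at hb hc hd he
  ext i
  fin_cases i
  · show (cjQ x y).1.b = _
    rw [hb]
    simp only [mX, co, mulVec, dotProduct, Fin.sum_univ_four, Matrix.of_apply, Matrix.cons_val', Matrix.cons_val_zero,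
      Matrix.cons_val_one, Matrix.cons_val, Matrix.cons_val_fin_one, Fin.zero_eta, Fin.mk_one, Fin.reduceFinMk]
    ring
  · show (cjQ x y).1.c = _
    rw [hc]
    simp only [mX, co, mulVec, dotProduct, Fin.sum_univ_four, Matrix.of_apply, Matrix.cons_val', Matrix.cons_val_zero,
      Matrix.cons_val_one, Matrix.cons_val, Matrix.cons_val_fin_one, Fin.zero_eta, Fin.mk_one, Fin.reduceFinMk]
    ring
  · show (cjQ x y).1.d = _
    rw [hd]
    simp only [mX, co, mulVec, dotProduct, Fin.sum_univ_four, Matrix.of_apply, Matrix.cons_val', Matrix.cons_val_zero,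
      Matrix.cons_val_one, Matrix.cons_val, Matrix.cons_val_fin_one, Fin.zero_eta, Fin.mk_one, Fin.reduceFinMk]
    ring
  · show (cjQ x y).1.e = _
    rw [he]
    simp only [mX, co, mulVec, dotProduct, Fin.sum_univ_four, Matrix.of_apply, Matrix.cons_val', Matrix.cons_val_zero,
      Matrix.cons_val_one, Matrix.cons_val, Matrix.cons_val_fin_one, Fin.zero_eta, Fin.mk_one, Fin.reduceFinMk]
    ring

theorem act_cjQ_x1 : act (cjQ (x1 (-1))) = gA := Units.ext (by
  rw [act_cjQ_coe]; exact mX_neg_one)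

theorem gA_pow_coe : ∀ k : Fin 5, ((gA ^ (k : ℕ) : M5ˣ) : M5) = mX (-(k : ℕ)) := by
  intro k
  rw [Units.val_pow_eq_pow_val]
  show mA ^ (k : ℕ) = _
  fin_cases k <;> decide +kernel

theorem gA_pow_five : gA ^ 5 = 1 := Units.ext (by
  rw [Units.val_pow_eq_pow_val]; exact mA5)

theorem exists_gA_pow (r : ZMod 5) : ∃ k : ℕ, ((gA ^ k : M5ˣ) : M5) = mX r := by
  refine ⟨(-r).val, ?_⟩
  have h := gA_pow_coe ⟨(-r).val, ZMod.val_lt _⟩
  rw [h]
  congr 1
  simp

theorem act_cjQ (x : GU (ZMod 5)) : ∃ k : ℕ, act (cjQ x) = gA ^ k := by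
  obtain ⟨k, hk⟩ := exists_gA_pow x.r
  exact ⟨k, Units.ext (by rw [act_cjQ_coe, hk])⟩

theorem mem_zpowers_iff {g : M5ˣ} : g ∈ Subgroup.zpowers gA ↔ ∃ k : ℕ, g = gA ^ k := by
  constructor
  · intro h
    have hf : IsOfFinOrder gA := isOfFinOrder_iff_pow_eq_one.2 ⟨5, by norm_num, gA_pow_five⟩
    obtain ⟨k, hk⟩ := (hf.mem_powers_iff_mem_zpowers).2 h
    exact ⟨k, hk.symm⟩
  · rintro ⟨k, rfl⟩
    exact Subgroup.npow_mem_zpowers _ _

theorem gA_ne_one : gA ≠ 1 := fun h => by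
  have h1 := congrArg (fun u : M5ˣ => (u : M5) 0 1) h
  revert h1
  decide +kernel

theorem orderOf_gA : orderOf gA = 5 := orderOf_eq_prime gA_pow_five gA_ne_one

/-- the diagonal matrix of a torus element -/
def mT (s t : ZMod 5) : M5 := !![s ^ 3 * t, 0, 0, 0; 0, s ^ 2 * t, 0, 0; 0, 0, s * t, 0; 0, 0, 0, t]

/-- `γ` is the restriction of `α` -/
def IsRes (α : GU (ZMod 5) ≃* GU (ZMod 5)) (γ : MulAut P1) : Prop := ∀ y : P1, ((γ y : P1) : GU (ZMod 5)) = α y

theorem act_tor {s t : (ZMod 5)ˣ} {γ : MulAut P1} (h : IsRes (tor s t) γ) : (act γ : M5) = mT s t := by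
  refine actM_eq fun y => ?_
  have h1 := h y
  ext i
  fin_cases i
  · show (γ y).1.b = _
    rw [h1]
    show (s : ZMod 5) ^ 3 * t * y.1.b = _
    simp only [mT, co, mulVec, dotProduct, Fin.sum_univ_four, Matrix.of_apply, Matrix.cons_val', Matrix.cons_val_zero,
      Matrix.cons_val_one, Matrix.cons_val, Matrix.cons_val_fin_one, Fin.zero_eta, Fin.mk_one, Fin.reduceFinMk]
    ring
  · show (γ y).1.c = _
    rw [h1]
    show (s : ZMod 5) ^ 2 * t * y.1.c = _
    simp only [mT, co, mulVec, dotProduct, Fin.sum_univ_four, Matrix.of_apply, Matrix.cons_val', Matrix.cons_val_zero,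
      Matrix.cons_val_one, Matrix.cons_val, Matrix.cons_val_fin_one, Fin.zero_eta, Fin.mk_one, Fin.reduceFinMk]
    ring
  · show (γ y).1.d = _
    rw [h1]
    show (s : ZMod 5) * t * y.1.d = _
    simp only [mT, co, mulVec, dotProduct, Fin.sum_univ_four, Matrix.of_apply, Matrix.cons_val', Matrix.cons_val_zero,
      Matrix.cons_val_one, Matrix.cons_val, Matrix.cons_val_fin_one, Fin.zero_eta, Fin.mk_one, Fin.reduceFinMk]
    ring
  · show (γ y).1.e = _
    rw [h1]
    show (t : ZMod 5) * y.1.e = _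
    simp only [mT, co, mulVec, dotProduct, Fin.sum_univ_four, Matrix.of_apply, Matrix.cons_val', Matrix.cons_val_zero,
      Matrix.cons_val_one, Matrix.cons_val, Matrix.cons_val_fin_one, Fin.zero_eta, Fin.mk_one, Fin.reduceFinMk]
    ring

theorem tor_mul (s t s' t' : (ZMod 5)ˣ) : (tor s t : MulAut (GU (ZMod 5))) * tor s' t' = tor (s * s') (t * t') := by
  ext1 x
  show tor s t (tor s' t' x) = tor (s * s') (t * t') x
  ext
  · show (s : ZMod 5) * (s' * x.r) = ((s * s' : (ZMod 5)ˣ) : ZMod 5) * x.r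
    push_cast; ring
  · show (s : ZMod 5) ^ 3 * t * ((s' : ZMod 5) ^ 3 * t' * x.b) =
      ((s * s' : (ZMod 5)ˣ) : ZMod 5) ^ 3 * ((t * t' : (ZMod 5)ˣ) : ZMod 5) * x.b
    push_cast; ring
  · show (s : ZMod 5) ^ 2 * t * ((s' : ZMod 5) ^ 2 * t' * x.c) =
      ((s * s' : (ZMod 5)ˣ) : ZMod 5) ^ 2 * ((t * t' : (ZMod 5)ˣ) : ZMod 5) * x.c
    push_cast; ring
  · show (s : ZMod 5) * t * ((s' : ZMod 5) * t' * x.d) =
      ((s * s' : (ZMod 5)ˣ) : ZMod 5) * ((t * t' : (ZMod 5)ˣ) : ZMod 5) * x.d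
    push_cast; ring
  · show (t : ZMod 5) * (t' * x.e) = ((t * t' : (ZMod 5)ˣ) : ZMod 5) * x.e
    push_cast; ring
  · show (s : ZMod 5) ^ 3 * t ^ 2 * ((s' : ZMod 5) ^ 3 * t' ^ 2 * x.z) =
      ((s * s' : (ZMod 5)ˣ) : ZMod 5) ^ 3 * ((t * t' : (ZMod 5)ˣ) : ZMod 5) ^ 2 * x.z
    push_cast; ring

end Cfsg.Agent.H770.QF
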