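import Cfsg.Agent.H770.QF.Par
import Cfsg.Agent.H24.Q5.Fus
import Cfsg.Agent.H103.GT.Grp

/-!
# S5211, block q = 5: `StF2`, `StF3` (helper770)

Transport of `QF/Par.lean` to helper779's group.
-/

set_option autoImplicit false

namespace Cfsg.Agent.H770.QF

open Cfsg Cfsg.Agent.H24.Q5 Cfsg.Agent.H756.PU Cfsg.Agent.H802 Matrix

open Cfsg.Agent.H650.G (GU.tor GU.Z2 GU.Z3)
open Cfsg.Agent.H779.G2 (IsTor IsR Par HasTor TT)

/-- helper650's group over the field with five elements -/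
abbrev V5 : Type := H650.G.GU (ZMod 5)

/-- the isomorphism -/
def isoU : V5 ≃* U5 where
  toFun x := ⟨x.r, x.e, x.d, -x.c, x.b, - (3 * x.c * x.d) - x.b * x.e - x.z⟩
  invFun y := ⟨y.a, y.e, -y.d, y.c, y.b, 3 * y.d * y.c - y.e * y.b - y.f⟩
  left_inv x := by
    ext <;> simp only [] <;> ring
  right_inv y := by
    ext <;> simp only [] <;> ring
  map_mul' x y := by
    ext
    · rfl
    · rfl
    · simp only [H650.G.GU.mul_d, H779.G2.GU.mul_c]; ring
    · simp only [H650.G.GU.mul_c, H779.G2.GU.mul_d]; ring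
    · simp only [H650.G.GU.mul_b, H779.G2.GU.mul_e]; ring
    · simp only [H650.G.GU.mul_b, H650.G.GU.mul_c, H650.G.GU.mul_d, H650.G.GU.mul_e, H650.G.GU.mul_z,
        H779.G2.GU.mul_f]; ring

/-- its restriction -/
def isoA : P1 ≃* A5 where
  toFun x := ⟨isoU x, x.2⟩
  invFun y := ⟨isoU.symm y, y.2⟩
  left_inv _ := Subtype.ext (isoU.symm_apply_apply _)
  right_inv _ := Subtype.ext (isoU.apply_symm_apply _)
  map_mul' _ _ := Subtype.ext (map_mul isoU _ _)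

theorem isoA_coe (x : P1) : ((isoA x : A5) : U5) = isoU x := rfl
theorem isoA_symm_coe (y : A5) : ((isoA.symm y : P1) : V5) = isoU.symm y := rfl

theorem vec_isoA (x : P1) : vec (isoA x : A5) = co x := by
  ext i
  fin_cases i
  · rfl
  · exact neg_neg _
  · rfl
  · rfl

/-- the transported automorphism of `Q_a` -/
abbrev cA : MulAut P1 ≃* MulAut A5 := MulAut.congr isoA
/-- the transported automorphism of `S` -/
abbrev cU : MulAut V5 ≃* MulAut U5 := MulAut.congr isoU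

theorem cA_apply (δ : MulAut P1) (x : P1) : cA δ (isoA x) = isoA (δ x) := by
  show isoA (δ (isoA.symm (isoA x))) = _
  rw [isoA.symm_apply_apply]

theorem cU_apply (δ : MulAut V5) (x : V5) : cU δ (isoU x) = isoU (δ x) := by
  show isoU (δ (isoU.symm (isoU x))) = _
  rw [isoU.symm_apply_apply]

theorem acts_iff (δ : MulAut P1) (g : M5ˣ) : Acts (cA δ) g ↔ act δ = g := by
  constructor
  · intro h
    apply act_eq
    intro y
    have h1 := h (isoA y)
    rw [cA_apply, vec_isoA, vec_isoA] at h1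
    exact h1
  · rintro rfl x
    obtain ⟨y, rfl⟩ := isoA.surjective x
    rw [cA_apply, vec_isoA, vec_isoA]
    exact (act_mulVec δ y).symm

theorem acts_iff' (γ : MulAut A5) (g : M5ˣ) : Acts γ g ↔ act (cA.symm γ) = g := by
  rw [← acts_iff, MulEquiv.apply_symm_apply]

theorem autInd_iff (δ : MulAut P1) : cA δ ∈ autInducedBy ⊤ A5 ↔ δ ∈ autInducedBy ⊤ P1 := by
  rw [mem_autInducedBy_iff, mem_autInducedBy_iff]
  constructor
  · rintro ⟨g, -, hg⟩
    refine ⟨isoU.symm g, Subgroup.mem_top _, fun x => ?_⟩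
    have h1 := hg (isoA x)
    rw [cA_apply, isoA_coe, isoA_coe] at h1
    apply isoU.injective
    rw [h1, map_mul, map_mul, map_inv, isoU.apply_symm_apply]
  · rintro ⟨g, -, hg⟩
    refine ⟨isoU g, Subgroup.mem_top _, fun y => ?_⟩
    obtain ⟨x, rfl⟩ := isoA.surjective y
    rw [cA_apply, isoA_coe, isoA_coe, hg x, map_mul, map_mul, map_inv]

theorem inn_iff (δ : MulAut P1) : cA δ ∈ Inn A5 ↔ δ ∈ Inn P1 := by
  constructor
  · rintro ⟨g, hg⟩
    refine ⟨isoA.symm g, ?_⟩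
    ext1 x
    have h1 := congrArg (fun α : MulAut A5 => α (isoA x)) hg
    have h2 : MulAut.conj g (isoA x) = cA δ (isoA x) := h1
    rw [MulAut.conj_apply, cA_apply] at h2
    rw [MulAut.conj_apply]
    apply isoA.injective
    rw [map_mul, map_mul, map_inv, isoA.apply_symm_apply, h2]
  · rintro ⟨g, rfl⟩
    refine ⟨isoA g, ?_⟩
    ext1 y
    obtain ⟨x, rfl⟩ := isoA.surjective y
    rw [cA_apply, MulAut.conj_apply, MulAut.conj_apply, map_mul, map_mul, map_inv]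

theorem normAut_iff (δ : MulAut P1) : NormAut ⊤ (cA δ) ↔ NormAut ⊤ δ := by
  constructor
  · intro h x hx
    have h1 := h (cA x) ((autInd_iff x).2 hx)
    rw [← map_inv, ← map_mul, ← map_mul] at h1
    exact (autInd_iff _).1 h1
  · intro h y hy
    obtain ⟨x, rfl⟩ := cA.surjective y
    have h1 := h x ((autInd_iff x).1 hy)
    rw [← map_inv, ← map_mul, ← map_mul]
    exact (autInd_iff _).2 h1

/-- torus elements -/
theorem isT_tor (s t : (ZMod 5)ˣ) : IsT (cU (GU.tor s t)) s t := by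
  have key : ∀ g : U5, cU (GU.tor s t) g = isoU (GU.tor s t (isoU.symm g)) := fun g => rfl
  refine ⟨s.ne_zero, t.ne_zero, fun g => ?_, fun g => ?_, fun g => ?_, fun g => ?_, fun g => ?_, fun g => ?_⟩
  · rw [key]; rfl
  · rw [key]; rfl
  · rw [key]; rfl
  · rw [key]
    show - ((s : ZMod 5) ^ 2 * t * (-g.d)) = (s : ZMod 5) ^ 2 * t * g.d
    ring
  · rw [key]; rfl
  · rw [key]
    show - (3 * ((s : ZMod 5) ^ 2 * t * (-g.d)) * ((s : ZMod 5) * t * g.c)) - ((s : ZMod 5) ^ 3 * t * g.e) * (t * g.b) -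
      (s : ZMod 5) ^ 3 * t ^ 2 * (3 * g.d * g.c - g.e * g.b - g.f) = (s : ZMod 5) ^ 3 * t ^ 2 * g.f
    ring

theorem isT_unique {α β : MulAut U5} {s t : ZMod 5} (h : IsT α s t) (h' : IsT β s t) : α = β := by
  ext1 g
  ext
  · rw [h.a, h'.a]
  · rw [h.b, h'.b]
  · rw [h.c, h'.c]
  · rw [h.d, h'.d]
  · rw [h.e, h'.e]
  · rw [h.f, h'.f]

theorem exists_units {α : MulAut U5} {s t : ZMod 5} (h : IsT α s t) :
    ∃ s' t' : (ZMod 5)ˣ, (s' : ZMod 5) = s ∧ (t' : ZMod 5) = t ∧ α = cU (GU.tor s' t') := by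
  refine ⟨Units.mk0 s h.ne1, Units.mk0 t h.ne2, rfl, rfl, ?_⟩
  exact isT_unique h (isT_tor (Units.mk0 s h.ne1) (Units.mk0 t h.ne2))

theorem ringEquiv_eq (τ : ZMod 5 ≃+* ZMod 5) : τ = RingEquiv.refl _ := by
  ext x
  have h := map_natCast τ x.val
  rw [ZMod.natCast_zmod_val] at h
  exact h

theorem isT_of_mem {α : MulAut U5} (h : α ∈ TT (ZMod 5)) : ∃ s t, IsT α s t := by
  rcases H103.GT.mem_TT h with ⟨s, t, τ, h1⟩ | ⟨s, t, τ, α', ρ, -, h2, -⟩
  · rw [ringEquiv_eq τ] at h1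
    exact ⟨s, t, h1⟩
  · exact absurd h2.three (by decide)

section

variable (Γ : Subgroup (MulAut A5)) (D : Subgroup (MulAut U5))

/-- the transported automizer -/
abbrev tG : Subgroup (MulAut P1) := Γ.comap cA.toMonoidHom
/-- the transported torus -/
abbrev tD : Subgroup (MulAut V5) := D.comap cU.toMonoidHom

theorem mem_tG {δ : MulAut P1} : δ ∈ tG Γ ↔ cA δ ∈ Γ := Iff.rfl
theorem mem_tD {d : MulAut V5} : d ∈ tD D ↔ cU d ∈ D := Iff.rfl

theorem isR_iff (d : MulAut V5) (δ : MulAut P1) : IsR (cU d) (cA δ) ↔ IsRes d δ := by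
  constructor
  · intro h y
    have h1 := h (isoA y)
    rw [cA_apply, isoA_coe, isoA_coe, cU_apply] at h1
    exact isoU.injective h1
  · intro h x
    obtain ⟨y, rfl⟩ := isoA.surjective x
    rw [cA_apply, isoA_coe, isoA_coe, cU_apply, h y]

theorem LG_eq : LG Γ = Par0.Lo (tG Γ) := by
  unfold LG Par0.Lo
  congr 1
  ext g
  constructor
  · rintro ⟨h5, γ, hγ, ha⟩
    refine ⟨⟨cA.symm γ, ?_, (acts_iff' γ g).1 ha⟩, h5⟩
    show cA (cA.symm γ) ∈ Γ
    rw [MulEquiv.apply_symm_apply]; exact hγ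
  · rintro ⟨⟨δ, hδ, hm⟩, h5⟩
    exact ⟨h5, cA δ, hδ, (acts_iff δ g).2 hm⟩

variable {Γ D}

theorem par0 (h : Par 5 A5 Γ D) : Par0 (tG Γ) (tD D) where
  indu := fun δ hδ => h.indu ((autInd_iff δ).2 hδ)
  syl := by
    intro P hP hP5
    obtain ⟨g, hg, h1⟩ := h.syl (P.map cA.toMonoidHom) (by
      rintro _ ⟨x, hx, rfl⟩
      exact hP hx) (hP5.map _)
    refine ⟨cA.symm g, ?_, ?_⟩
    · show cA (cA.symm g) ∈ Γ
      rw [MulEquiv.apply_symm_apply]; exact hg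
    · intro x hx
      rw [← autInd_iff, map_mul, map_mul, map_inv, MulEquiv.apply_symm_apply]
      exact h1 _ ⟨x, hx, rfl⟩
  D_tor := by
    intro d hd
    obtain ⟨s, t, h1⟩ := isT_of_mem (h.D_le hd)
    obtain ⟨s', t', -, -, h2⟩ := exists_units h1
    exact ⟨s', t', cU.injective h2⟩
  D_res := by
    intro d hd δ hδ
    exact h.D_res _ hd _ ((isR_iff d δ).2 hδ)
  norm := by
    intro δ hδ hn
    obtain ⟨x, d, hd, hx⟩ := h.norm _ hδ ((normAut_iff δ).2 hn)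
    refine ⟨isoU.symm x, cU.symm d, ?_, fun e => ?_⟩
    · show cU (cU.symm d) ∈ D
      rw [MulEquiv.apply_symm_apply]; exact hd
    · have h1 : ((cA δ (isoA e) : A5) : U5) = x * d (isoA e : A5) * x⁻¹ := hx (isoA e)
      rw [cA_apply, isoA_coe, isoA_coe] at h1
      apply isoU.injective
      rw [h1, map_mul, map_mul, map_inv, isoU.apply_symm_apply, ← cU_apply, MulEquiv.apply_symm_apply]

theorem mem_Z2 (x : V5) : isoU x ∈ H779.G2.Z2 (ZMod 5) ↔ x ∈ GU.Z2 (ZMod 5) := by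
  constructor
  · rintro ⟨h1, h2, h3, h4⟩
    exact ⟨h1, h2, h3, neg_eq_zero.1 h4⟩
  · rintro ⟨h1, h2, h3, h4⟩
    exact ⟨h1, h2, h3, neg_eq_zero.2 h4⟩

theorem mem_Z3 (x : V5) : isoU x ∈ H779.G2.Z3 (ZMod 5) ↔ x ∈ GU.Z3 (ZMod 5) := by
  constructor
  · rintro ⟨h1, h2, h3⟩
    exact ⟨h1, h2, h3⟩
  · rintro ⟨h1, h2, h3⟩
    exact ⟨h1, h2, h3⟩

theorem par5 (h : Par 5 A5 Γ D) (ht : HasTor D (fun t => t⁻¹) (fun t => t ^ 2))
    (n2 : ¬ Inv Γ (H779.G2.Z2 (ZMod 5))) (n3 : ¬ Inv Γ (H779.G2.Z3 (ZMod 5))) : Par5 (tG Γ) (tD D) where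
  toPar0 := par0 h
  htor := by
    intro t
    have h1 := isT_tor t⁻¹ (t ^ 2)
    refine ht t t.ne_zero _ ?_
    have e1 : ((t⁻¹ : (ZMod 5)ˣ) : ZMod 5) = (t : ZMod 5)⁻¹ := Units.val_inv_eq_inv_val t
    have e2 : ((t ^ 2 : (ZMod 5)ˣ) : ZMod 5) = (t : ZMod 5) ^ 2 := Units.val_pow_eq_pow_val t 2
    rw [e1, e2] at h1
    exact h1
  nZ2 := by
    intro hz
    apply n2
    refine ⟨fun x hx => hx.1, ?_⟩
    intro γ hγ e he
    obtain ⟨δ, rfl⟩ := cA.surjective γ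
    obtain ⟨y, rfl⟩ := isoA.surjective e
    rw [cA_apply, isoA_coe, mem_Z2]
    exact hz δ hγ y ((mem_Z2 _).1 he)
  nZ3 := by
    intro hz
    apply n3
    refine ⟨fun x hx => hx.1, ?_⟩
    intro γ hγ e he
    obtain ⟨δ, rfl⟩ := cA.surjective γ
    obtain ⟨y, rfl⟩ := isoA.surjective e
    rw [cA_apply, isoA_coe, mem_Z3]
    exact hz δ hγ y ((mem_Z3 _).1 he)

end

/-- **(F2)** -/
theorem stF2 : StF2 := by
  intro Γ D h ht n2 n3
  rw [LG_eq]
  exact (par5 h ht n2 n3).hyp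

theorem mdg_eq (s t : ZMod 5) : mdg s t = mT s t := by
  ext i j
  fin_cases i <;> fin_cases j <;> simp [mdg, mT, Matrix.diagonal]

/-- **(F3)** -/
theorem stF3 : StF3 := by
  intro Γ D h
  have h0 := par0 h
  have hT : ∀ d ∈ D, ∃ s t, IsT d s t := fun d hd => isT_of_mem (h.D_le hd)
  refine ⟨hT, ?_, ?_, ?_⟩
  · intro s t α hα hg
    obtain ⟨g, hg, hm⟩ := hg
    obtain ⟨s', t', rfl, rfl, rfl⟩ := exists_units hα
    rw [LG_eq] at hg
    have h1 : g = tau (s', t') := Units.ext (by rw [hm, mdg_eq, tau_coe])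
    exact h0.tor_mem (x := (s', t')) (h1 ▸ Par0.Lo_le hg)
  · intro γ
    obtain ⟨δ, rfl⟩ := cA.surjective γ
    have h1 : cA δ ∈ Γ ↔ δ ∈ tG Γ := Iff.rfl
    rw [h1, h0.mem_iff, LG_eq]
    constructor
    · rintro ⟨l, hl, ⟨s, t⟩, hx, hm⟩
      exact ⟨l, hl, cU (GU.tor s t), hx, s, t, isT_tor s t, tau (s, t), by rw [tau_coe, mdg_eq], (acts_iff _ _).2 hm⟩
    · rintro ⟨l, hl, d, hd, s, t, hdt, g, hg, hm⟩
      obtain ⟨s', t', rfl, rfl, rfl⟩ := exists_units hdt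
      refine ⟨l, hl, (s', t'), hd, ?_⟩
      rw [(acts_iff _ _).1 hm]
      congr 1
      exact Units.ext (by rw [hg, mdg_eq, tau_coe])
  · rw [LG_eq]
    have c1 : Nat.card Γ = Nat.card (tG Γ) := by
      apply Nat.card_congr
      exact (MulEquiv.subgroupMap cA.symm Γ).toEquiv.trans (Equiv.subtypeEquivRight fun x => by
        show x ∈ Γ.map cA.symm.toMonoidHom ↔ x ∈ Γ.comap cA.toMonoidHom
        rw [Subgroup.mem_map_equiv]; rfl)
    have c2 : Nat.card D = Nat.card ((tD D).comap torHom) := by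
      apply Nat.card_congr
      symm
      refine Equiv.ofBijective (fun x => (⟨cU (torHom x.1), x.2⟩ : D)) ⟨?_, ?_⟩
      · intro x y hxy
        have h1 : torHom x.1 = torHom y.1 := cU.injective (congrArg Subtype.val hxy)
        have h2 := congrArg (fun α : MulAut V5 => α ⟨1, 0, 0, 0, 1, 0⟩) h1
        have h3 : (x.1.1 : ZMod 5) * 1 = (y.1.1 : ZMod 5) * 1 := congrArg H650.G.GU.r h2
        have h4 : (x.1.2 : ZMod 5) * 1 = (y.1.2 : ZMod 5) * 1 := congrArg H650.G.GU.e h2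
        rw [mul_one, mul_one] at h3 h4
        exact Subtype.ext (Prod.ext (Units.ext h3) (Units.ext h4))
      · rintro ⟨d, hd⟩
        obtain ⟨s, t, hdt⟩ := hT d hd
        obtain ⟨s', t', rfl, rfl, rfl⟩ := exists_units hdt
        exact ⟨⟨(s', t'), hd⟩, rfl⟩
    have c3 : Nat.card {g : M5ˣ // g ∈ Par0.Lo (tG Γ) ∧ ∃ d ∈ D, ∃ s t, IsT d s t ∧ (g : M5) = mdg s t} =
        Nat.card ((Par0.Lo (tG Γ)).comap tau : Subgroup TU) := by
      apply Nat.card_congr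
      symm
      refine Equiv.ofBijective (fun x => (⟨tau x.1, x.2, cU (torHom x.1), h0.tor_mem (Par0.Lo_le x.2), x.1.1, x.1.2,
        isT_tor _ _, by rw [tau_coe, mdg_eq]⟩ : {g : M5ˣ // g ∈ Par0.Lo (tG Γ) ∧ ∃ d ∈ D, ∃ s t, IsT d s t ∧ (g : M5) = mdg s t}))
        ⟨?_, ?_⟩
      · intro x y hxy
        have h1 : tau x.1 = tau y.1 := congrArg Subtype.val hxy
        have h2 := congrArg (fun u : M5ˣ => (u : M5)) h1
        simp only [tau_coe] at h2
        have h3 : (x.1.2 : ZMod 5) = y.1.2 := congrFun (congrFun h2 3) 3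
        have h4 : (x.1.1 : ZMod 5) * x.1.2 = y.1.1 * y.1.2 := congrFun (congrFun h2 2) 2
        rw [h3] at h4
        exact Subtype.ext (Prod.ext (Units.ext (mul_right_cancel₀ y.1.2.ne_zero h4)) (Units.ext h3))
      · rintro ⟨g, hg, d, hd, s, t, hdt, hm⟩
        obtain ⟨s', t', rfl, rfl, rfl⟩ := exists_units hdt
        have h1 : tau (s', t') = g := Units.ext (by rw [hm, mdg_eq, tau_coe])
        refine ⟨⟨(s', t'), ?_⟩, Subtype.ext h1⟩
        show tau (s', t') ∈ Par0.Lo (tG Γ)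
        rw [h1]; exact hg
    rw [c1, c2, c3, h0.card_Γ, mul_assoc, h0.card_eq, mul_assoc]

end Cfsg.Agent.H770.QF
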